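import Cfsg.Agent.H74.UniCent
import Cfsg.Agent.H78.Exceptional
import Cfsg.Agent.Ree.Prd3

set_option autoImplicit false
set_option maxHeartbeats 1000000
set_option linter.unusedSectionVars false

/-!
Exceptional characters for a self-centralizing abelian trivial intersection subgroup.
-/

namespace Cfsg.Agent.Ree

open scoped ComplexConjugate BigOperators
open Cfsg Cfsg.Agent.CharBase Cfsg.Agent.Char

universe u

namespace Exc

open H74 H74.TIData

variable {G : Type u} [Group G] (D : TIData G)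

/-- the subgroup `C` equals `P` and is abelian -/
structure Full : Prop where
  ker : ∀ c : D.C, D.π c = 1 → c = 1
  comm : ∀ a b : D.C, a * b = b * a

variable [Fintype G] [Fintype D.C] [Fintype D.N] {D} (hF : Full D)

include hF

lemma deg_one (θ : IrrCharacter D.C) : (θ : D.C → ℂ) 1 = 1 := irr_degree_one_of_comm hF.comm θ

lemma nt_iff {θ : IrrCharacter D.C} : D.NT θ ↔ θ ≠ oneIrr D.C := by
  constructor
  · rintro h rfl
    exact D.not_nt_oneIrr h
  · intro h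
    by_contra hn
    apply h
    apply Subtype.ext
    funext c
    rw [oneIrr_apply]
    have h1 : c = D.iP (D.π c) := by
      have h2 : D.π (c * (D.iP (D.π c))⁻¹) = 1 := by
        rw [map_mul, map_inv, show D.π (D.iP (D.π c)) = D.π c from D.hπ _, mul_inv_cancel]
      have h3 := hF.ker _ h2
      exact mul_inv_eq_one.1 h3
    rw [h1]
    by_contra hc
    apply hn
    refine ⟨D.π c, ?_⟩
    rw [deg_one hF]
    exact hc

lemma ag (θ θ' : IrrCharacter D.C) : D.Ag θ θ' := by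
  intro c hc
  rw [hF.ker c hc, deg_one hF, deg_one hF]

/-- sum of a nontrivial character over the subgroup -/
lemma sum_zero {θ : IrrCharacter D.C} (h : θ ≠ oneIrr D.C) : ∑ c : D.C, (θ : D.C → ℂ) c = 0 := by
  have h1 := classInner_irr_of_ne (G := D.C) h
  rw [classInner] at h1
  simp only [oneIrr_apply, map_one, mul_one] at h1
  rcases mul_eq_zero.1 h1 with h2 | h2
  · exfalso
    have hY : (Nat.card D.C : ℂ) ≠ 0 := by exact_mod_cast (Nat.card_pos (α := D.C)).ne'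
    exact inv_ne_zero hY h2
  · exact h2

lemma twI_ne {θ : IrrCharacter D.C} (h : θ ≠ oneIrr D.C) (x : D.N) : D.twI x θ ≠ oneIrr D.C := by
  intro h1
  have h2 := D.not_cj_one ((nt_iff hF).2 h)
  exact h2 (TIData.Cj.symm ⟨x, h1⟩)

/-- the restriction of a difference of induced characters has no trivial constituent -/
lemma sum_Df {θ θ' : IrrCharacter D.C} (h : θ ≠ oneIrr D.C) (h' : θ' ≠ oneIrr D.C) : ∑ c : D.C, D.Df θ θ' c = 0 := by
  unfold Df
  have h1 : ∀ c : D.C, indFun D.C ((θ : D.C → ℂ) - (θ' : D.C → ℂ)) c = (Nat.card D.C : ℂ)⁻¹ * ∑ x : D.N, D.tw x ((θ : D.C → ℂ) - (θ' : D.C → ℂ)) c :=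
    fun c => D.indFun_restrict (fun c hc => by rw [Pi.sub_apply, ag hF θ θ' c hc, sub_self]) c
  rw [Finset.sum_congr rfl (fun c _ => h1 c), ← Finset.mul_sum, Finset.sum_comm]
  have h2 : ∀ x : D.N, ∑ c : D.C, D.tw x ((θ : D.C → ℂ) - (θ' : D.C → ℂ)) c = 0 := by
    intro x
    rw [D.tw_sub]
    simp only [Pi.sub_apply]
    rw [Finset.sum_sub_distrib]
    have h3 := sum_zero hF (twI_ne hF h x)
    have h4 := sum_zero hF (twI_ne hF h' x)
    change ∑ c : D.C, D.tw x (θ : D.C → ℂ) c = 0 at h3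
    change ∑ c : D.C, D.tw x (θ' : D.C → ℂ) c = 0 at h4
    rw [h3, h4, sub_self]
  rw [Finset.sum_congr rfl (fun x _ => h2 x), Finset.sum_const_zero, mul_zero]

omit hF in
/-- the multiplicity of the trivial character -/
lemma sum_C (ζ : IrrCharacter G) : ∑ c : D.C, (ζ : G → ℂ) c = (Nat.card D.C : ℂ) * D.mu ζ (oneIrr D.C) := by
  have h := D.mu_spec ζ (oneIrr D.C)
  rw [← h, classInner]
  have hY : (Nat.card D.C : ℂ) ≠ 0 := by exact_mod_cast (Nat.card_pos (α := D.C)).ne'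
  simp only [oneIrr_apply, map_one, mul_one]
  rw [mul_inv_cancel_left₀ hY]

/-- existence of the exceptional characters: `κ` is the class index of the nontrivial characters of `C` -/
theorem exists_data (hne : ∃ θ : IrrCharacter D.C, θ ≠ oneIrr D.C) :
    ∃ (n : ℕ) (ε : ℤ) (μ : Fin n → IrrCharacter G) (κ : {θ : IrrCharacter D.C // θ ≠ oneIrr D.C} → Fin n),
      (ε = 1 ∨ ε = -1) ∧ Function.Injective μ ∧ Function.Surjective κ ∧ (∀ θ θ', κ θ = κ θ' ↔ D.Cj θ.1 θ'.1) ∧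
      (∀ θ θ', D.Df θ.1 θ'.1 = (ε : ℂ) • ((μ (κ θ) : G → ℂ) - (μ (κ θ') : G → ℂ))) := by
  classical
  let s : Setoid {θ : IrrCharacter D.C // θ ≠ oneIrr D.C} :=
    ⟨fun θ θ' => D.Cj θ.1 θ'.1, fun θ => Cj.refl D θ.1, fun h => Cj.symm h, fun h h' => Cj.trans h h'⟩
  have hfinI : Finite (IrrCharacter D.C) := inferInstance
  have hfin : Finite (Quotient s) := Quotient.finite s
  obtain ⟨n, ⟨e⟩⟩ := Finite.exists_equiv_fin (Quotient s)
  let lam : Fin n → {θ : IrrCharacter D.C // θ ≠ oneIrr D.C} := fun i => Quotient.out (e.symm i)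
  obtain ⟨θ0, hθ0⟩ := hne
  let i0 : Fin n := e (Quotient.mk s ⟨θ0, hθ0⟩)
  have hlam : ∀ i j, D.Cj (lam i).1 (lam j).1 ↔ i = j := by
    intro i j
    constructor
    · intro h
      have h1 : Quotient.mk s (lam i) = Quotient.mk s (lam j) := Quotient.sound h
      rw [Quotient.out_eq, Quotient.out_eq] at h1
      exact e.symm.injective h1
    · rintro rfl
      exact Cj.refl D _
  have hB : ∀ i j, D.B ((lam i).1 : D.C → ℂ) ((lam j).1 : D.C → ℂ) = if i = j then 1 else 0 := by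
    intro i j
    split_ifs with h
    · rw [h]; exact D.B_self ((nt_iff hF).2 (lam j).2)
    · exact D.B_of_not_cj (fun hc => h ((hlam i j).1 hc))
  obtain ⟨ε, hε, μ, hμ, hμinj, hμ2⟩ := H78.exists_irr_of_gram (G := G) n i0 (fun i => D.Df (lam i).1 (lam i0).1)
    (by
      unfold Df
      rw [sub_self]
      funext g
      simp [indFun, extendByZero, Function.extend_def])
    (fun i => D.Df_isGen _ _)
    (fun i => D.Df_one (ag hF _ _))
    (fun i j hi hj => by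
      rw [D.classInner_Df (ag hF _ _), hB, hB, hB, hB, if_neg hi, if_neg (Ne.symm hj), if_pos rfl]
      split_ifs <;> norm_num)
  obtain ⟨ε', hε', hεε'⟩ : ∃ ε' : ℤ, (ε' = 1 ∨ ε' = -1) ∧ (ε' : ℂ) = ε := by
    rcases hε with h | h
    · exact ⟨1, Or.inl rfl, by rw [h]; norm_num⟩
    · exact ⟨-1, Or.inr rfl, by rw [h]; norm_num⟩
  refine ⟨n, ε', fun i => ⟨μ i, hμ i⟩, fun θ => e (Quotient.mk s θ), hε', ?_, ?_, ?_, ?_⟩
  · intro i j h
    exact hμinj (Subtype.ext_iff.1 h)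
  · intro i
    refine ⟨lam i, ?_⟩
    change e (Quotient.mk s (lam i)) = i
    rw [Quotient.out_eq, Equiv.apply_symm_apply]
  · intro θ θ'
    rw [e.injective.eq_iff]
    exact Quotient.eq
  · intro θ θ'
    -- replace by representatives
    have hrep : ∀ θ : {θ : IrrCharacter D.C // θ ≠ oneIrr D.C}, D.Cj θ.1 (lam (e (Quotient.mk s θ))).1 := by
      intro θ
      have : Quotient.mk s θ = Quotient.mk s (lam (e (Quotient.mk s θ))) := by
        change Quotient.mk s θ = Quotient.mk s (Quotient.out (e.symm (e (Quotient.mk s θ))))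
        rw [Equiv.symm_apply_apply, Quotient.out_eq]
      exact Quotient.exact this
    -- `Df` as a class function is determined by its inner products
    have hDf : ∀ θ θ' : {θ : IrrCharacter D.C // θ ≠ oneIrr D.C}, D.Df θ.1 θ'.1 = D.Df (lam (e (Quotient.mk s θ))).1 (lam (e (Quotient.mk s θ'))).1 := by
      intro θ θ'
      apply classFun_ext (D.Df_isGen _ _ |> isGeneralizedCharacter_iff.1).1 (D.Df_isGen _ _ |> isGeneralizedCharacter_iff.1).1
      intro χ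
      rw [D.classInner_Df_irr, D.classInner_Df_irr, D.mu_cj χ (hrep θ), D.mu_cj χ (hrep θ')]
    rw [hDf θ θ']
    have h1 := hμ2 (e (Quotient.mk s θ))
    have h2 := hμ2 (e (Quotient.mk s θ'))
    have h3 : D.Df (lam (e (Quotient.mk s θ))).1 (lam (e (Quotient.mk s θ'))).1 =
        D.Df (lam (e (Quotient.mk s θ))).1 (lam i0).1 - D.Df (lam (e (Quotient.mk s θ'))).1 (lam i0).1 := by
      unfold Df
      rw [indFun_sub, indFun_sub, indFun_sub]
      abel
    rw [h3, h1, h2, hεε', ← smul_sub]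
    congr 1
    abel

/-- the number of nontrivial characters -/
lemma card_nt [Fintype {θ : IrrCharacter D.C // θ ≠ oneIrr D.C}] : (Fintype.card {θ : IrrCharacter D.C // θ ≠ oneIrr D.C} : ℤ) = Nat.card D.C - 1 := by
  classical
  have : Fintype (IrrCharacter D.C) := Fintype.ofFinite _
  have h1 := sum_sq_degree (G := D.C)
  simp only [deg_one hF, one_pow] at h1
  rw [Finset.sum_const, nsmul_eq_mul, mul_one, Finset.card_univ] at h1
  have h2 : Fintype.card (IrrCharacter D.C) = Nat.card D.C := by exact_mod_cast h1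
  have h3 := Fintype.card_subtype_compl (fun θ : IrrCharacter D.C => θ = oneIrr D.C)
  have h4 : Fintype.card {θ : IrrCharacter D.C // θ = oneIrr D.C} = 1 := Fintype.card_subtype_eq _
  have h5 : Fintype.card {θ : IrrCharacter D.C // θ ≠ oneIrr D.C} = Fintype.card {θ : IrrCharacter D.C // ¬ θ = oneIrr D.C} := Fintype.card_congr (Equiv.refl _)
  have h6 : 0 < Nat.card D.C := Nat.card_pos
  rw [h5, h3, h4, h2]
  omega

/-- sum over the characters -/
lemma sum_split [Fintype (IrrCharacter D.C)] [Fintype {θ : IrrCharacter D.C // θ ≠ oneIrr D.C}] {A : Type*} [AddCommMonoid A] (f : IrrCharacter D.C → A) :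
    ∑ θ, f θ = f (oneIrr D.C) + ∑ θ : {θ : IrrCharacter D.C // θ ≠ oneIrr D.C}, f θ.1 := by
  classical
  rw [← Finset.add_sum_erase Finset.univ f (Finset.mem_univ (oneIrr D.C))]
  congr 1
  exact Finset.sum_subtype _ (fun θ => by simp) f

/-- the size of the fibres -/
lemma card_fibre [Fintype {θ : IrrCharacter D.C // θ ≠ oneIrr D.C}] {n : ℕ} (κ : {θ : IrrCharacter D.C // θ ≠ oneIrr D.C} → Fin n)
    (hκs : Function.Surjective κ) (hκ : ∀ θ θ', κ θ = κ θ' ↔ D.Cj θ.1 θ'.1) (i : Fin n) :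
    (Finset.univ.filter (fun θ => κ θ = i)).card = D.e := by
  classical
  obtain ⟨θ, hθ⟩ := hκs i
  rw [← D.card_cls ((nt_iff hF).2 θ.2)]
  refine Finset.card_bij (fun θ' _ => θ'.1) ?_ ?_ ?_
  · intro θ' hθ'
    rw [mem_cls, ← hκ, hθ]
    exact (Finset.mem_filter.1 hθ').2.symm
  · intro a _ b _ h
    exact Subtype.ext h
  · intro b hb
    rw [mem_cls] at hb
    have hb1 : b ≠ oneIrr D.C := by
      rintro rfl
      exact D.not_cj_one' ((nt_iff hF).2 θ.2) hb
    refine ⟨⟨b, hb1⟩, ?_, rfl⟩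
    rw [Finset.mem_filter]
    refine ⟨Finset.mem_univ _, ?_⟩
    rw [← hθ]
    exact ((hκ θ ⟨b, hb1⟩).2 hb).symm

/-- the structure of the restrictions of the irreducible characters to a self-centralizing abelian TI subgroup -/
theorem main (hne : ∃ θ : IrrCharacter D.C, θ ≠ oneIrr D.C) (hcent : ∀ y : D.C, y ≠ 1 → Nat.card (Subgroup.centralizer ({(y : G)} : Set G)) = Nat.card D.C)
    [Fintype (IrrCharacter G)] [DecidableEq (IrrCharacter G)] :
    ∃ (E : Finset (IrrCharacter G)) (ε ce : ℤ) (c : IrrCharacter G → ℤ) (a : IrrCharacter G → ℕ) (d : ℝ), (ε = 1 ∨ ε = -1) ∧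
      (∀ χ ∉ E, ∀ y : D.C, y ≠ 1 → (χ : G → ℂ) y = c χ) ∧ (∀ χ ∈ E, c χ = ce ∧ rdeg χ = d) ∧
      (∀ χ, (Nat.card D.C : ℝ) * a χ = rdeg χ + (Nat.card D.C - 1) * c χ - ε * D.e * (if χ ∈ E then 1 else 0)) ∧
      (∀ χ, rT D.C χ = (Nat.card D.C : ℝ) * a χ) ∧ ((E.card : ℤ) * D.e = Nat.card D.C - 1) ∧
      (∑ χ ∈ Finset.univ.filter (· ∉ E), (c χ) ^ 2 + E.card * ce ^ 2 - 2 * ε * ce = D.e) ∧ (2 ≤ E.card → oneIrr G ∉ E) := by
  classical
  have : Fintype (IrrCharacter D.C) := Fintype.ofFinite _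
  have : Fintype {θ : IrrCharacter D.C // θ ≠ oneIrr D.C} := Fintype.ofFinite _
  obtain ⟨n, ε, μ, κ, hε, hμ, hκs, hκ, hDf⟩ := exists_data hF hne
  obtain ⟨θ1, hθ1⟩ := hne
  have hεε : ε * ε = 1 := by rcases hε with h | h <;> rw [h] <;> norm_num
  -- multiplicities
  have K1 : ∀ (ζ : IrrCharacter G) (θ θ' : {θ : IrrCharacter D.C // θ ≠ oneIrr D.C}), (D.mu ζ θ.1 : ℤ) - D.mu ζ θ'.1 =
      ε * ((if μ (κ θ) = ζ then 1 else 0) - (if μ (κ θ') = ζ then 1 else 0)) := by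
    intro ζ θ θ'
    have h1 := D.classInner_Df_irr θ.1 θ'.1 ζ
    rw [hDf, classInner_smul_left, classInner_sub_left, classInner_irr, classInner_irr] at h1
    have h2 : ((ε * ((if μ (κ θ) = ζ then 1 else 0) - (if μ (κ θ') = ζ then 1 else 0)) : ℤ) : ℂ) = (((D.mu ζ θ.1 : ℤ) - D.mu ζ θ'.1 : ℤ) : ℂ) := by
      rw [← h1]
      push_cast
      ring
    exact_mod_cast h2.symm
  obtain ⟨b, hb⟩ : ∃ b : IrrCharacter G → ℤ, ∀ (ζ : IrrCharacter G) (θ : {θ : IrrCharacter D.C // θ ≠ oneIrr D.C}),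
      (D.mu ζ θ.1 : ℤ) = b ζ + ε * (if μ (κ θ) = ζ then 1 else 0) := by
    refine ⟨fun ζ => D.mu ζ θ1 - ε * (if μ (κ ⟨θ1, hθ1⟩) = ζ then 1 else 0), fun ζ θ => ?_⟩
    have := K1 ζ θ ⟨θ1, hθ1⟩
    linarith
  let E : Finset (IrrCharacter G) := Finset.univ.image μ
  have hE : ∀ χ, χ ∈ E ↔ ∃ i, μ i = χ := by
    intro χ; simp [E]
  have hEcard : E.card = n := by
    rw [Finset.card_image_of_injective _ hμ, Finset.card_univ, Fintype.card_fin]
  -- number of exceptional constituents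
  have hcount : ∀ ζ : IrrCharacter G, ∑ θ : {θ : IrrCharacter D.C // θ ≠ oneIrr D.C}, (if μ (κ θ) = ζ then (1 : ℤ) else 0) = D.e * (if ζ ∈ E then 1 else 0) := by
    intro ζ
    split_ifs with h
    · obtain ⟨i, rfl⟩ := (hE ζ).1 h
      rw [Finset.sum_boole, mul_one, ← card_fibre hF κ hκs hκ i]
      simp only [hμ.eq_iff]
    · rw [mul_zero]
      apply Finset.sum_eq_zero
      intro θ _
      rw [if_neg]
      intro h'
      exact h ((hE ζ).2 ⟨_, h'⟩)
  have hcardnt := card_nt hF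
  have hne' : ((E.card : ℤ) * D.e = Nat.card D.C - 1) := by
    have h1 : (Finset.univ : Finset {θ : IrrCharacter D.C // θ ≠ oneIrr D.C}).card = n * D.e := by
      rw [Finset.card_eq_sum_card_fiberwise (f := κ) (t := Finset.univ) (fun _ _ => Finset.mem_univ _)]
      rw [Finset.sum_congr rfl (fun i _ => card_fibre hF κ hκs hκ i), Finset.sum_const, Finset.card_univ, Fintype.card_fin, smul_eq_mul]
    rw [Finset.card_univ] at h1
    rw [hEcard, ← hcardnt, h1]
    push_cast; ring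
  -- degrees
  have hdeg : ∀ ζ : IrrCharacter G, rdeg ζ = D.mu ζ (oneIrr D.C) + (Nat.card D.C - 1) * b ζ + ε * D.e * (if ζ ∈ E then 1 else 0) := by
    intro ζ
    have h1 := D.restrict_eq_sum ζ 1
    rw [sum_split hF] at h1
    simp only [deg_one hF, mul_one] at h1
    have h2 : ((ζ : G → ℂ) ((1 : D.C) : G)) = rdeg ζ := coe_rdeg ζ
    rw [h2] at h1
    have h3 : ∑ θ : {θ : IrrCharacter D.C // θ ≠ oneIrr D.C}, (D.mu ζ θ.1 : ℤ) = (Nat.card D.C - 1) * b ζ + ε * D.e * (if ζ ∈ E then 1 else 0) := by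
      rw [Finset.sum_congr rfl (fun θ _ => hb ζ θ), Finset.sum_add_distrib, Finset.sum_const, Finset.card_univ, nsmul_eq_mul, hcardnt, ← Finset.mul_sum, hcount]
      ring
    have h4 : (rdeg ζ : ℂ) = (((D.mu ζ (oneIrr D.C) : ℤ) + ((Nat.card D.C - 1) * b ζ + ε * D.e * (if ζ ∈ E then 1 else 0)) : ℤ) : ℂ) := by
      rw [h1, ← h3]
      push_cast
      ring
    have h5 : (rdeg ζ : ℂ) = (((D.mu ζ (oneIrr D.C) : ℝ) + (Nat.card D.C - 1) * b ζ + ε * D.e * (if ζ ∈ E then 1 else 0) : ℝ) : ℂ) := by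
      rw [h4]
      split_ifs <;> (push_cast; ring)
    exact Complex.ofReal_injective h5
  have hrT : ∀ χ, rT D.C χ = (Nat.card D.C : ℝ) * D.mu χ (oneIrr D.C) := by
    intro χ
    have h1 := sum_C (D := D) χ
    have h2 := congrArg Complex.re h1
    rw [Complex.re_sum] at h2
    rw [rT, h2, ← Nat.cast_mul, Complex.natCast_re, Nat.cast_mul]
  -- equality of the invariants on `E`
  have haE : ∀ θ θ' : {θ : IrrCharacter D.C // θ ≠ oneIrr D.C}, D.mu (μ (κ θ)) (oneIrr D.C) = D.mu (μ (κ θ')) (oneIrr D.C) := by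
    intro θ θ'
    have h1 := sum_Df hF θ.2 θ'.2
    rw [hDf] at h1
    simp only [Pi.smul_apply, Pi.sub_apply, smul_eq_mul] at h1
    rw [← Finset.mul_sum, Finset.sum_sub_distrib, sum_C, sum_C] at h1
    have hε0 : (ε : ℂ) ≠ 0 := by rcases hε with h | h <;> rw [h] <;> norm_num
    have hY : (Nat.card D.C : ℂ) ≠ 0 := by exact_mod_cast (Nat.card_pos (α := D.C)).ne'
    have h2 := (mul_eq_zero.1 h1).resolve_left hε0
    rw [← mul_sub] at h2
    have h3 := (mul_eq_zero.1 h2).resolve_left hY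
    exact_mod_cast sub_eq_zero.1 h3
  have hdE : ∀ θ θ' : {θ : IrrCharacter D.C // θ ≠ oneIrr D.C}, rdeg (μ (κ θ)) = rdeg (μ (κ θ')) := by
    intro θ θ'
    have h1 := D.Df_one (ag hF θ.1 θ'.1)
    rw [hDf] at h1
    simp only [Pi.smul_apply, Pi.sub_apply, smul_eq_mul] at h1
    have hε0 : (ε : ℂ) ≠ 0 := by rcases hε with h | h <;> rw [h] <;> norm_num
    have h2 := (mul_eq_zero.1 h1).resolve_left hε0
    rw [coe_rdeg, coe_rdeg] at h2
    exact_mod_cast sub_eq_zero.1 h2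
  have hM1 : (Nat.card D.C : ℤ) - 1 ≠ 0 := by
    rw [← hcardnt]
    have : 0 < Fintype.card {θ : IrrCharacter D.C // θ ≠ oneIrr D.C} := Fintype.card_pos_iff.2 ⟨⟨θ1, hθ1⟩⟩
    exact_mod_cast this.ne'
  have hM1r : (Nat.card D.C : ℝ) - 1 ≠ 0 := by exact_mod_cast hM1
  have hbE : ∀ θ θ' : {θ : IrrCharacter D.C // θ ≠ oneIrr D.C}, b (μ (κ θ)) = b (μ (κ θ')) := by
    intro θ θ'
    have h1 := hdeg (μ (κ θ))
    have h2 := hdeg (μ (κ θ'))
    rw [if_pos ((hE _).2 ⟨_, rfl⟩)] at h1 h2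
    rw [hdE θ θ', haE θ θ', h2] at h1
    have h3 : ((Nat.card D.C : ℝ) - 1) * b (μ (κ θ)) = ((Nat.card D.C : ℝ) - 1) * b (μ (κ θ')) := by linarith
    exact_mod_cast mul_left_cancel₀ hM1r h3
  obtain ⟨c, hc⟩ : ∃ c : IrrCharacter G → ℤ, ∀ χ, c χ = D.mu χ (oneIrr D.C) - b χ := ⟨_, fun _ => rfl⟩
  have hcE : ∀ χ ∈ E, c χ = c (μ (κ ⟨θ1, hθ1⟩)) := by
    intro χ hχ
    obtain ⟨i, rfl⟩ := (hE χ).1 hχ
    obtain ⟨θ, rfl⟩ := hκs i
    rw [hc, hc, hbE θ ⟨θ1, hθ1⟩, haE θ ⟨θ1, hθ1⟩]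
  -- the norm equation
  have hnorm : ∀ ζ : IrrCharacter G, ∑ y : D.C, ‖(ζ : G → ℂ) y‖ ^ 2 = (Nat.card D.C : ℝ) * ∑ θ : IrrCharacter D.C, (D.mu ζ θ : ℝ) ^ 2 := by
    intro ζ
    have hcf : IsClassFunction D.C (fun c : D.C => (ζ : G → ℂ) c) := isClassFunction_of_isCharacter (isCharacter_restrict (irr_isCharacter ζ) D.C)
    have h1 := classInner_eq_sum hcf (f' := fun c : D.C => (ζ : G → ℂ) c)
    have h2 : ∀ θ : IrrCharacter D.C, classInner (θ : D.C → ℂ) (fun c : D.C => (ζ : G → ℂ) c) = D.mu ζ θ := by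
      intro θ
      rw [← D.mu_spec ζ θ]
      exact classInner_comm_of_isCharacter (irr_isCharacter θ) (isCharacter_restrict (irr_isCharacter ζ) D.C)
    simp only [h2, D.mu_spec] at h1
    have hY : (Nat.card D.C : ℂ) ≠ 0 := by exact_mod_cast (Nat.card_pos (α := D.C)).ne'
    rw [classInner, inv_mul_eq_iff_eq_mul₀ hY] at h1
    apply Complex.ofReal_injective
    push_cast
    rw [← Finset.sum_congr rfl (fun y _ => ?_)] 
    · rw [h1]
      congr 1
      refine Finset.sum_congr rfl fun θ _ => ?_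
      ring
    · rw [Complex.mul_conj, Complex.normSq_eq_norm_sq]
      push_cast
      ring
  refine ⟨E, ε, c (μ (κ ⟨θ1, hθ1⟩)), c, fun χ => D.mu χ (oneIrr D.C), rdeg (μ (κ ⟨θ1, hθ1⟩)), hε, ?_, ?_, ?_, hrT, hne', ?_, ?_⟩
  · -- non exceptional characters are constant
    intro χ hχ y hy
    rw [D.restrict_eq_sum χ y, sum_split hF]
    have h1 : ∀ θ : {θ : IrrCharacter D.C // θ ≠ oneIrr D.C}, (D.mu χ θ.1 : ℤ) = b χ := by
      intro θ
      rw [hb, if_neg, mul_zero, add_zero]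
      intro h
      exact hχ ((hE χ).2 ⟨_, h⟩)
    have h2 : ∀ θ : {θ : IrrCharacter D.C // θ ≠ oneIrr D.C}, (D.mu χ θ.1 : ℂ) * (θ.1 : D.C → ℂ) y = (b χ : ℂ) * (θ.1 : D.C → ℂ) y := by
      intro θ
      rw [← h1 θ, Int.cast_natCast]
    rw [Finset.sum_congr rfl (fun θ _ => h2 θ), ← Finset.mul_sum]
    have h3 := sum_degree_mul (G := D.C) y
    rw [if_neg hy, sum_split hF] at h3
    simp only [deg_one hF, one_mul, oneIrr_apply] at h3
    have h4 : ∑ θ : {θ : IrrCharacter D.C // θ ≠ oneIrr D.C}, (θ.1 : D.C → ℂ) y = -1 := by linear_combination h3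
    rw [h4, oneIrr_apply, hc]
    push_cast
    ring
  · intro χ hχ
    refine ⟨hcE χ hχ, ?_⟩
    obtain ⟨i, rfl⟩ := (hE χ).1 hχ
    obtain ⟨θ, rfl⟩ := hκs i
    exact hdE _ _
  · intro χ
    rw [hdeg χ, hc]
    push_cast
    ring
  · -- the norm equation
    have h1 : ∀ y ∈ (Finset.univ : Finset D.C).erase 1, ∑ ζ : IrrCharacter G, ‖(ζ : G → ℂ) y‖ ^ 2 = (Nat.card D.C : ℝ) := by
      intro y hy
      rw [sum_norm_sq, hcent y (Finset.ne_of_mem_erase hy)]
    have h2 := Finset.sum_congr (rfl : (Finset.univ : Finset D.C).erase 1 = _) h1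
    rw [Finset.sum_comm, Finset.sum_const, Finset.card_erase_of_mem (Finset.mem_univ _), Finset.card_univ, nsmul_eq_mul] at h2
    have h3 : ∀ ζ : IrrCharacter G, ∑ y ∈ (Finset.univ : Finset D.C).erase 1, ‖(ζ : G → ℂ) y‖ ^ 2 =
        (Nat.card D.C - 1) * (c ζ : ℝ) ^ 2 - 2 * ε * D.e * c ζ * (if ζ ∈ E then 1 else 0) + D.e * (Nat.card D.C - D.e) * (if ζ ∈ E then 1 else 0) := by
      intro ζ
      have h4 := hnorm ζ
      rw [← Finset.add_sum_erase Finset.univ _ (Finset.mem_univ (1 : D.C)), sum_split hF] at h4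
      have h5 : ‖(ζ : G → ℂ) ((1 : D.C) : G)‖ ^ 2 = rdeg ζ ^ 2 := by
        rw [show (ζ : G → ℂ) ((1 : D.C) : G) = rdeg ζ from coe_rdeg ζ, Complex.norm_real, Real.norm_eq_abs, sq_abs]
      have h6 : ∑ θ : {θ : IrrCharacter D.C // θ ≠ oneIrr D.C}, ((D.mu ζ θ.1 : ℕ) : ℤ) ^ 2 =
          (Nat.card D.C - 1) * b ζ ^ 2 + 2 * ε * b ζ * (D.e * (if ζ ∈ E then 1 else 0)) + D.e * (if ζ ∈ E then 1 else 0) := by
        have h7 : ∀ θ : {θ : IrrCharacter D.C // θ ≠ oneIrr D.C}, ((D.mu ζ θ.1 : ℕ) : ℤ) ^ 2 =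
            b ζ ^ 2 + 2 * ε * b ζ * (if μ (κ θ) = ζ then 1 else 0) + (if μ (κ θ) = ζ then 1 else 0) := by
          intro θ
          rw [hb ζ θ]
          split_ifs
          · linear_combination hεε
          · ring
        rw [Finset.sum_congr rfl (fun θ _ => h7 θ), Finset.sum_add_distrib, Finset.sum_add_distrib, Finset.sum_const, Finset.card_univ, nsmul_eq_mul,
          hcardnt, ← Finset.mul_sum, hcount]
      have h6' : ∑ θ : {θ : IrrCharacter D.C // θ ≠ oneIrr D.C}, (D.mu ζ θ.1 : ℝ) ^ 2 =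
          (Nat.card D.C - 1) * (b ζ : ℝ) ^ 2 + 2 * ε * b ζ * (D.e * (if ζ ∈ E then 1 else 0)) + D.e * (if ζ ∈ E then 1 else 0) := by
        have h := congrArg (fun z : ℤ => (z : ℝ)) h6
        simp only [Int.cast_sum, Int.cast_pow, Int.cast_natCast, Int.cast_add, Int.cast_mul, Int.cast_sub, Int.cast_one, Int.cast_ofNat] at h
        rw [h]
        split_ifs <;> simp
      rw [h5, h6'] at h4
      have h8 : (∑ y ∈ (Finset.univ : Finset D.C).erase 1, ‖(ζ : G → ℂ) y‖ ^ 2) = (Nat.card D.C : ℝ) * ((D.mu ζ (oneIrr D.C) : ℝ) ^ 2 +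
          ((Nat.card D.C - 1) * (b ζ : ℝ) ^ 2 + 2 * ε * b ζ * (D.e * (if ζ ∈ E then 1 else 0)) + D.e * (if ζ ∈ E then 1 else 0))) - rdeg ζ ^ 2 := by linarith
      rw [h8, hdeg ζ, hc]
      have hεr : (ε : ℝ) * ε = 1 := by exact_mod_cast hεε
      push_cast
      split_ifs
      · linear_combination (-(D.e : ℝ) ^ 2) * hεr
      · ring
    rw [Finset.sum_congr rfl (fun ζ _ => h3 ζ)] at h2
    have h9 : ∑ ζ : IrrCharacter G, ((Nat.card D.C - 1) * (c ζ : ℝ) ^ 2 - 2 * ε * D.e * c ζ * (if ζ ∈ E then 1 else 0) + D.e * (Nat.card D.C - D.e) * (if ζ ∈ E then 1 else 0)) =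
        (Nat.card D.C - 1) * ∑ χ ∈ Finset.univ.filter (· ∉ E), (c χ : ℝ) ^ 2 +
        E.card * ((Nat.card D.C - 1) * (c (μ (κ ⟨θ1, hθ1⟩)) : ℝ) ^ 2 - 2 * ε * D.e * c (μ (κ ⟨θ1, hθ1⟩)) + D.e * (Nat.card D.C - D.e)) := by
      rw [← Finset.sum_filter_add_sum_filter_not Finset.univ (· ∉ E), Finset.mul_sum]
      congr 1
      · refine Finset.sum_congr rfl fun ζ hζ => ?_
        rw [if_neg (Finset.mem_filter.1 hζ).2]
        ring
      · have h10 : Finset.univ.filter (fun ζ => ¬ ζ ∉ E) = E := by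
          ext ζ; simp
        rw [h10]
        rw [Finset.sum_congr rfl (fun ζ hζ => by rw [if_pos hζ, hcE ζ hζ]), Finset.sum_const, nsmul_eq_mul]
        ring
    rw [h9] at h2
    have hcardC : (Fintype.card D.C : ℕ) = Nat.card D.C := (Nat.card_eq_fintype_card).symm
    have hpos : 0 < Nat.card D.C := Nat.card_pos
    rw [hcardC, Nat.cast_sub hpos, Nat.cast_one] at h2
    have hne'' : (E.card : ℝ) * D.e = Nat.card D.C - 1 := by exact_mod_cast hne'
    have h11 : ((Nat.card D.C : ℝ) - 1) * (∑ χ ∈ Finset.univ.filter (· ∉ E), (c χ : ℝ) ^ 2 + E.card * (c (μ (κ ⟨θ1, hθ1⟩)) : ℝ) ^ 2 - 2 * ε * c (μ (κ ⟨θ1, hθ1⟩))) =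
        ((Nat.card D.C : ℝ) - 1) * D.e := by
      linear_combination h2 + (2 * ε * c (μ (κ ⟨θ1, hθ1⟩)) - (Nat.card D.C - D.e)) * hne''
    have h12 := mul_left_cancel₀ hM1r h11
    exact_mod_cast h12
  · intro h2 hE1
    rw [hEcard] at h2
    obtain ⟨i, hi⟩ := (hE _).1 hE1
    obtain ⟨j, hj⟩ : ∃ j : Fin n, j ≠ i := by
      have : Nontrivial (Fin n) := Fin.nontrivial_iff_two_le.2 h2
      exact exists_ne i
    obtain ⟨θ, rfl⟩ := hκs i
    obtain ⟨θ', rfl⟩ := hκs j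
    have h3 := K1 (oneIrr G) θ θ'
    rw [if_pos hi, if_neg (fun h => hj (hμ (h.trans hi.symm)))] at h3
    have h4 : ∀ θ : {θ : IrrCharacter D.C // θ ≠ oneIrr D.C}, D.mu (oneIrr G) θ.1 = 0 := by
      intro θ
      have h5 := D.mu_spec (oneIrr G) θ.1
      have h6 : classInner (fun c : D.C => ((oneIrr G : IrrCharacter G) : G → ℂ) c) (θ.1 : D.C → ℂ) = classInner (oneIrr D.C : D.C → ℂ) (θ.1 : D.C → ℂ) := by
        congr 1
      rw [h6, classInner_irr_of_ne (Ne.symm θ.2)] at h5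
      exact_mod_cast h5.symm
    rw [h4 θ, h4 θ'] at h3
    rcases hε with h | h <;> rw [h] at h3 <;> norm_num at h3

end Exc

end Cfsg.Agent.Ree
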