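import Cfsg.Agent.Ree.M7

set_option autoImplicit false
set_option maxHeartbeats 2000000
set_option linter.unusedVariables false

/-!
The cross product on the 7-dimensional module and its invariance under the unipotent matrices.
-/

namespace Cfsg.Agent.Ree

variable {K : Type*} [Field K]

/-- the cross product -/
def cross (v w : Fin 7 → K) : Fin 7 → K :=
  ![-((v 0) * (w 3)) - (v 1) * (w 2) + (v 2) * (w 1) + (v 3) * (w 0),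
    -((v 0) * (w 4)) + (v 1) * (w 3) - (v 3) * (w 1) + (v 4) * (w 0),
    (v 0) * (w 5) + (v 2) * (w 3) - (v 3) * (w 2) - (v 5) * (w 0),
    -((v 0) * (w 6)) + (v 1) * (w 5) + (v 2) * (w 4) - (v 4) * (w 2) - (v 5) * (w 1) + (v 6) * (w 0),
    (v 1) * (w 6) + (v 3) * (w 4) - (v 4) * (w 3) - (v 6) * (w 1),
    -((v 2) * (w 6)) + (v 3) * (w 5) - (v 5) * (w 3) + (v 6) * (w 2),
    -((v 3) * (w 6)) - (v 4) * (w 5) + (v 5) * (w 4) + (v 6) * (w 3)]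

private lemma cr_0 (h3 : (3 : K) = 0) (T S U X W Y v0 v1 v2 v3 v4 v5 v6 w0 w1 w2 w3 w4 w5 w6 : K) :
    -(((1) * v0 + (T) * v1 + (-U) * v2 + (-W + T * U) * v3 + (-X - T * W - S * T ^ 3) * v4 + (-Y - U * W - T * U ^ 2 - S ^ 2 * T ^ 3) * v5 + (T * Y - U * X - W ^ 2 - T * U * W - S * T ^ 3 * U + S ^ 2 * T ^ 4) * v6) * ((0) * w0 + (0) * w1 + (0) * w2 + (1) * w3 + (T) * w4 + (U) * w5 + (-W + T * U) * w6)) - ((0) * v0 + (1) * v1 + (S) * v2 + (U + S * T) * v3 + (-W - S * T ^ 2) * v4 + (S * W - U ^ 2 + S * T * U) * v5 + (Y + S * X - U * W - S * T * W - S * T ^ 2 * U - S ^ 2 * T ^ 3) * v6) * ((0) * w0 + (0) * w1 + (1) * w2 + (T) * w3 + (-(T ^ 2)) * w4 + (W + T * U) * w5 + (X - T * W - T ^ 2 * U + S * T ^ 3) * w6) + ((0) * v0 + (0) * v1 + (1) * v2 + (T) * v3 + (-(T ^ 2)) * v4 + (W + T * U) * v5 + (X - T * W - T ^ 2 * U + S * T ^ 3) * v6) *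 ((0) * w0 + (1) * w1 + (S) * w2 + (U + S * T) * w3 + (-W - S * T ^ 2) * w4 + (S * W - U ^ 2 + S * T * U) * w5 + (Y + S * X - U * W - S * T * W - S * T ^ 2 * U - S ^ 2 * T ^ 3) * w6) + ((0) * v0 + (0) * v1 + (0) * v2 + (1) * v3 + (T) * v4 + (U) * v5 + (-W + T * U) * v6) * ((1) * w0 + (T) * w1 + (-U) * w2 + (-W + T * U) * w3 + (-X - T * W - S * T ^ 3) * w4 + (-Y - U * W - T * U ^ 2 - S ^ 2 * T ^ 3) * w5 + (T * Y - U * X - W ^ 2 - T * U * W - S * T ^ 3 * U + S ^ 2 * T ^ 4) * w6) =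
    (1) * (-((v0) * (w3)) - (v1) * (w2) + (v2) * (w1) + (v3) * (w0)) + (T) * (-((v0) * (w4)) + (v1) * (w3) - (v3) * (w1) + (v4) * (w0)) + (-U) * ((v0) * (w5) + (v2) * (w3) - (v3) * (w2) - (v5) * (w0)) + (-W + T * U) * (-((v0) * (w6)) + (v1) * (w5) + (v2) * (w4) - (v4) * (w2) - (v5) * (w1) + (v6) * (w0)) + (-X - T * W - S * T ^ 3) * ((v1) * (w6) + (v3) * (w4) - (v4) * (w3) - (v6) * (w1)) + (-Y - U * W - T * U ^ 2 - S ^ 2 * T ^ 3) * (-((v2) * (w6)) + (v3) * (w5) - (v5) * (w3) + (v6) * (w2)) + (T * Y - U * X - W ^ 2 - T * U * W - S * T ^ 3 * U + S ^ 2 * T ^ 4) * (-((v3) * (w6)) - (v4) * (w5) + (v5) * (w4) + (v6) * (w3)) := by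
  linear_combination (-(S * T ^ 3 * U * v3 * w6) + S * T ^ 3 * U * v6 * w3 - S ^ 2 * T ^ 3 * W * v5 * w6 + S ^ 2 * T ^ 3 * W * v6 * w5 - S ^ 2 * T ^ 3 * v2 * w6 + S ^ 2 * T ^ 3 * v6 * w2 + S ^ 2 * T ^ 5 * v4 * w6 - S ^ 2 * T ^ 5 * v6 * w4 + T * U * Y * v5 * w6 - T * U * Y * v6 * w5 - T * U * v1 * w5 + T * U * v5 * w1 - T * U ^ 2 * W * v5 * w6 + T * U ^ 2 * W * v6 * w5 - T * U ^ 2 * v3 * w5 + T * U ^ 2 * v5 * w3 + T * W * v1 * w6 - T * W * v6 * w1 - T * W ^ 2 * v4 * w6 + T * W ^ 2 * v6 * w4 + T * Y * v3 * w6 - T * Y * v6 * w3 - T * v1 * w3 + T * v3 * w1 - U * W * v2 * w6 + U * W * v6 * w2 - U * W ^ 2 * v5 * w6 + U * W ^ 2 * v6 * w5 - U * X * v3 * w6 + U * X * v6 * w3 + U * v2 * w3 - U * v3 * w2 - W ^ 2 * v3 * w6 + W ^ 2 * v6 * w3) * h3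

private lemma cr_1 (h3 : (3 : K) = 0) (T S U X W Y v0 v1 v2 v3 v4 v5 v6 w0 w1 w2 w3 w4 w5 w6 : K) :
    -(((1) * v0 + (T) * v1 + (-U) * v2 + (-W + T * U) * v3 + (-X - T * W - S * T ^ 3) * v4 + (-Y - U * W - T * U ^ 2 - S ^ 2 * T ^ 3) * v5 + (T * Y - U * X - W ^ 2 - T * U * W - S * T ^ 3 * U + S ^ 2 * T ^ 4) * v6) * ((0) * w0 + (0) * w1 + (0) * w2 + (0) * w3 + (1) * w4 + (-S) * w5 + (U + S * T) * w6)) + ((0) * v0 + (1) * v1 + (S) * v2 + (U + S * T) * v3 + (-W - S * T ^ 2) * v4 + (S * W - U ^ 2 + S * T * U) * v5 + (Y + S * X - U * W - S * T * W - S * T ^ 2 * U - S ^ 2 * T ^ 3) * v6) * ((0) * w0 + (0) * w1 + (0) * w2 + (1) * w3 + (T) * w4 + (U) * w5 + (-W + T * U) * w6) - ((0) * v0 + (0) * v1 + (0) * v2 + (1) * v3 + (T) * v4 + (U) * v5 + (-W + T * U) * v6) * ((0) * w0 + (1) * w1 + (S) * w2 + (U + S * T) * w3 + (-W - S * T ^ 2) * w4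 + (S * W - U ^ 2 + S * T * U) * w5 + (Y + S * X - U * W - S * T * W - S * T ^ 2 * U - S ^ 2 * T ^ 3) * w6) + ((0) * v0 + (0) * v1 + (0) * v2 + (0) * v3 + (1) * v4 + (-S) * v5 + (U + S * T) * v6) * ((1) * w0 + (T) * w1 + (-U) * w2 + (-W + T * U) * w3 + (-X - T * W - S * T ^ 3) * w4 + (-Y - U * W - T * U ^ 2 - S ^ 2 * T ^ 3) * w5 + (T * Y - U * X - W ^ 2 - T * U * W - S * T ^ 3 * U + S ^ 2 * T ^ 4) * w6) =
    (0) * (-((v0) * (w3)) - (v1) * (w2) + (v2) * (w1) + (v3) * (w0)) + (1) * (-((v0) * (w4)) + (v1) * (w3) - (v3) * (w1) + (v4) * (w0)) + (S) * ((v0) * (w5) + (v2) * (w3) - (v3) * (w2) - (v5) * (w0)) + (U + S * T) * (-((v0) * (w6)) + (v1) * (w5) + (v2) * (w4) - (v4) * (w2) - (v5) * (w1) + (v6) * (w0)) + (-W - S * T ^ 2) * ((v1) * (w6) + (v3) * (w4) - (v4) * (w3) - (v6) * (w1)) + (S * W - U ^ 2 + S * T * U) * (-((v2) * (w6)) + (v3)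 * (w5) - (v5) * (w3) + (v6) * (w2)) + (Y + S * X - U * W - S * T * W - S * T ^ 2 * U - S ^ 2 * T ^ 3) * (-((v3) * (w6)) - (v4) * (w5) + (v5) * (w4) + (v6) * (w3)) := by
  linear_combination (S * T * U * W * v5 * w6 - S * T * U * W * v6 * w5 + S * T * U * v2 * w6 - S * T * U * v6 * w2 - S * T * W * v4 * w5 + S * T * W * v5 * w4 - S * T ^ 2 * U * v4 * w5 + S * T ^ 2 * U * v5 * w4 + S * T ^ 2 * U ^ 2 * v5 * w6 - S * T ^ 2 * U ^ 2 * v6 * w5 + S * T ^ 2 * W * v4 * w6 - S * T ^ 2 * W * v6 * w4 + S * T ^ 2 * v3 * w4 - S * T ^ 2 * v4 * w3 - S * W * v3 * w5 + S * W * v5 * w3 + S ^ 2 * T ^ 3 * U * v5 * w6 - S ^ 2 * T ^ 3 * U * v6 * w5 - S ^ 2 * T ^ 3 * v4 * w5 + S ^ 2 * T ^ 3 * v5 * w4 + S ^ 2 * T ^ 4 * v4 * w6 - S ^ 2 * T ^ 4 * v6 * w4 - U * W * v4 * w5 + U * W * v5 * w4 + U ^ 2 * W * v5 * w6 - U ^ 2 * W * v6 * w5 + U ^ 2 * v3 * w5 - U ^ 2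 * v5 * w3 + W * v3 * w4 - W * v4 * w3) * h3

private lemma cr_2 (h3 : (3 : K) = 0) (T S U X W Y v0 v1 v2 v3 v4 v5 v6 w0 w1 w2 w3 w4 w5 w6 : K) :
    ((1) * v0 + (T) * v1 + (-U) * v2 + (-W + T * U) * v3 + (-X - T * W - S * T ^ 3) * v4 + (-Y - U * W - T * U ^ 2 - S ^ 2 * T ^ 3) * v5 + (T * Y - U * X - W ^ 2 - T * U * W - S * T ^ 3 * U + S ^ 2 * T ^ 4) * v6) * ((0) * w0 + (0) * w1 + (0) * w2 + (0) * w3 + (0) * w4 + (1) * w5 + (-T) * w6) + ((0) * v0 + (0) * v1 + (1) * v2 + (T) * v3 + (-(T ^ 2)) * v4 + (W + T * U) * v5 + (X - T * W - T ^ 2 * U + S * T ^ 3) * v6) * ((0) * w0 + (0) * w1 + (0) * w2 + (1) * w3 + (T) * w4 + (U) * w5 + (-W + T * U) * w6) - ((0) * v0 + (0) * v1 + (0) * v2 + (1) * v3 + (T) * v4 + (U) * v5 + (-W + T * U) * v6) * ((0) * w0 + (0) * w1 + (1) * w2 + (T) * w3 + (-(T ^ 2)) * w4 + (W + T * U) * w5 + (X - T * W - T ^ 2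 * U + S * T ^ 3) * w6) - ((0) * v0 + (0) * v1 + (0) * v2 + (0) * v3 + (0) * v4 + (1) * v5 + (-T) * v6) * ((1) * w0 + (T) * w1 + (-U) * w2 + (-W + T * U) * w3 + (-X - T * W - S * T ^ 3) * w4 + (-Y - U * W - T * U ^ 2 - S ^ 2 * T ^ 3) * w5 + (T * Y - U * X - W ^ 2 - T * U * W - S * T ^ 3 * U + S ^ 2 * T ^ 4) * w6) =
    (0) * (-((v0) * (w3)) - (v1) * (w2) + (v2) * (w1) + (v3) * (w0)) + (0) * (-((v0) * (w4)) + (v1) * (w3) - (v3) * (w1) + (v4) * (w0)) + (1) * ((v0) * (w5) + (v2) * (w3) - (v3) * (w2) - (v5) * (w0)) + (T) * (-((v0) * (w6)) + (v1) * (w5) + (v2) * (w4) - (v4) * (w2) - (v5) * (w1) + (v6) * (w0)) + (-(T ^ 2)) * ((v1) * (w6) + (v3) * (w4) - (v4) * (w3) - (v6) * (w1)) + (W + T * U) * (-((v2) * (w6)) + (v3) * (w5) - (v5) * (w3) + (v6) * (w2)) + (X - T * W - T ^ 2 * U + S * T ^ 3) * (-((v3) * (w6)) - (v4) * (w5) + (v5) * (w4) +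 (v6) * (w3)) := by
  linear_combination (T * U * W * v5 * w6 - T * U * W * v6 * w5 + T * U * v2 * w6 - T * U * v6 * w2 - T * W * v4 * w5 + T * W * v5 * w4 - T ^ 2 * U * v4 * w5 + T ^ 2 * U * v5 * w4 + T ^ 2 * U ^ 2 * v5 * w6 - T ^ 2 * U ^ 2 * v6 * w5 + T ^ 2 * W * v4 * w6 - T ^ 2 * W * v6 * w4 + T ^ 2 * v3 * w4 - T ^ 2 * v4 * w3 - W * v3 * w5 + W * v5 * w3) * h3

private lemma cr_3 (h3 : (3 : K) = 0) (T S U X W Y v0 v1 v2 v3 v4 v5 v6 w0 w1 w2 w3 w4 w5 w6 : K) :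
    -(((1) * v0 + (T) * v1 + (-U) * v2 + (-W + T * U) * v3 + (-X - T * W - S * T ^ 3) * v4 + (-Y - U * W - T * U ^ 2 - S ^ 2 * T ^ 3) * v5 + (T * Y - U * X - W ^ 2 - T * U * W - S * T ^ 3 * U + S ^ 2 * T ^ 4) * v6) * ((0) * w0 + (0) * w1 + (0) * w2 + (0) * w3 + (0) * w4 + (0) * w5 + (1) * w6)) + ((0) * v0 + (1) * v1 + (S) * v2 + (U + S * T) * v3 + (-W - S * T ^ 2) * v4 + (S * W - U ^ 2 + S * T * U) * v5 + (Y + S * X - U * W - S * T * W - S * T ^ 2 * U - S ^ 2 * T ^ 3) * v6) * ((0) * w0 + (0) * w1 + (0) * w2 + (0) * w3 + (0) * w4 + (1) * w5 + (-T) * w6) + ((0) * v0 + (0) * v1 + (1) * v2 + (T) * v3 + (-(T ^ 2)) * v4 + (W + T * U) * v5 + (X - T * W - T ^ 2 * U + S * T ^ 3) * v6) * ((0) * w0 + (0) * w1 + (0) * w2 + (0) * w3 + (1) * w4 + (-S) * w5 + (U + S * T) * w6) - ((0) * v0 + (0) * v1 + (0) * v2 + (0) * v3 + (1) * v4 + (-S) * v5 +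 (U + S * T) * v6) * ((0) * w0 + (0) * w1 + (1) * w2 + (T) * w3 + (-(T ^ 2)) * w4 + (W + T * U) * w5 + (X - T * W - T ^ 2 * U + S * T ^ 3) * w6) - ((0) * v0 + (0) * v1 + (0) * v2 + (0) * v3 + (0) * v4 + (1) * v5 + (-T) * v6) * ((0) * w0 + (1) * w1 + (S) * w2 + (U + S * T) * w3 + (-W - S * T ^ 2) * w4 + (S * W - U ^ 2 + S * T * U) * w5 + (Y + S * X - U * W - S * T * W - S * T ^ 2 * U - S ^ 2 * T ^ 3) * w6) + ((0) * v0 + (0) * v1 + (0) * v2 + (0) * v3 + (0) * v4 + (0) * v5 + (1) * v6) * ((1) * w0 + (T) * w1 + (-U) * w2 + (-W + T * U) * w3 + (-X - T * W - S * T ^ 3) * w4 + (-Y - U * W - T * U ^ 2 - S ^ 2 * T ^ 3) * w5 + (T * Y - U * X - W ^ 2 - T * U * W - S * T ^ 3 * U + S ^ 2 * T ^ 4) * w6) =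
    (0) * (-((v0) * (w3)) - (v1) * (w2) + (v2) * (w1) + (v3) * (w0)) + (0) * (-((v0) * (w4)) + (v1) * (w3) - (v3) * (w1) + (v4) * (w0)) + (0) * ((v0) * (w5) + (v2) * (w3) - (v3) * (w2) - (v5) * (w0)) + (1) * (-((v0) * (w6)) + (v1) * (w5) + (v2) * (w4) - (v4) * (w2) - (v5) * (w1) + (v6) * (w0)) + (T) * ((v1) * (w6) + (v3) * (w4) - (v4) * (w3) - (v6) * (w1)) + (U) * (-((v2) * (w6)) + (v3) * (w5) - (v5) * (w3) + (v6) * (w2)) + (-W + T * U) * (-((v3) * (w6)) - (v4) * (w5) + (v5) * (w4) + (v6) * (w3)) := by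
  linear_combination (S ^ 2 * T ^ 3 * v5 * w6 - S ^ 2 * T ^ 3 * v6 * w5 + T * U ^ 2 * v5 * w6 - T * U ^ 2 * v6 * w5 + T * W * v4 * w6 - T * W * v6 * w4 - T * v1 * w6 + T * v6 * w1 + U * W * v5 * w6 - U * W * v6 * w5 + U * v2 * w6 - U * v6 * w2 - W * v4 * w5 + W * v5 * w4) * h3

private lemma cr_4 (h3 : (3 : K) = 0) (T S U X W Y v0 v1 v2 v3 v4 v5 v6 w0 w1 w2 w3 w4 w5 w6 : K) :
    ((0) * v0 + (1) * v1 + (S) * v2 + (U + S * T) * v3 + (-W - S * T ^ 2) * v4 + (S * W - U ^ 2 + S * T * U) * v5 + (Y + S * X - U * W - S * T * W - S * T ^ 2 * U - S ^ 2 * T ^ 3) * v6) * ((0) * w0 + (0) * w1 + (0) * w2 + (0) * w3 + (0) * w4 + (0) * w5 + (1) * w6) + ((0) * v0 + (0) * v1 + (0) * v2 + (1) * v3 + (T) * v4 + (U) * v5 + (-W + T * U) * v6) * ((0) * w0 + (0) * w1 + (0) * w2 + (0) * w3 + (1) * w4 + (-S) * w5 + (U + S * T) * w6) - ((0) * v0 + (0) * v1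 + (0) * v2 + (0) * v3 + (1) * v4 + (-S) * v5 + (U + S * T) * v6) * ((0) * w0 + (0) * w1 + (0) * w2 + (1) * w3 + (T) * w4 + (U) * w5 + (-W + T * U) * w6) - ((0) * v0 + (0) * v1 + (0) * v2 + (0) * v3 + (0) * v4 + (0) * v5 + (1) * v6) * ((0) * w0 + (1) * w1 + (S) * w2 + (U + S * T) * w3 + (-W - S * T ^ 2) * w4 + (S * W - U ^ 2 + S * T * U) * w5 + (Y + S * X - U * W - S * T * W - S * T ^ 2 * U - S ^ 2 * T ^ 3) * w6) =
    (0) * (-((v0) * (w3)) - (v1) * (w2) + (v2) * (w1) + (v3) * (w0)) + (0) * (-((v0) * (w4)) + (v1) * (w3) - (v3) * (w1) + (v4) * (w0)) + (0) * ((v0) * (w5) + (v2) * (w3) - (v3) * (w2) - (v5) * (w0)) + (0) * (-((v0) * (w6)) + (v1) * (w5) + (v2) * (w4) - (v4) * (w2) - (v5) * (w1) + (v6) * (w0)) + (1) * ((v1) * (w6) + (v3) * (w4) - (v4) * (w3) - (v6) * (w1)) + (-S) * (-((v2) * (w6)) + (v3) * (w5) - (v5) * (w3) + (v6) * (w2))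 + (U + S * T) * (-((v3) * (w6)) - (v4) * (w5) + (v5) * (w4) + (v6) * (w3)) := by
  linear_combination (S * T * U * v5 * w6 - S * T * U * v6 * w5 + S * T * v3 * w6 - S * T * v6 * w3 + U * v3 * w6 - U * v6 * w3) * h3

private lemma cr_5 (h3 : (3 : K) = 0) (T S U X W Y v0 v1 v2 v3 v4 v5 v6 w0 w1 w2 w3 w4 w5 w6 : K) :
    -(((0) * v0 + (0) * v1 + (1) * v2 + (T) * v3 + (-(T ^ 2)) * v4 + (W + T * U) * v5 + (X - T * W - T ^ 2 * U + S * T ^ 3) * v6) * ((0) * w0 + (0) * w1 + (0) * w2 + (0) * w3 + (0) * w4 + (0) * w5 + (1) * w6)) + ((0) * v0 + (0) * v1 + (0) * v2 + (1) * v3 + (T) * v4 + (U) * v5 + (-W + T * U) * v6) * ((0) * w0 + (0) * w1 + (0) * w2 + (0) * w3 + (0) * w4 + (1) * w5 + (-T) * w6) - ((0) * v0 + (0) * v1 + (0) * v2 + (0) * v3 + (0) * v4 + (1) * v5 + (-T) * v6) * ((0) * w0 + (0) * w1 + (0) * w2 + (1) * w3 + (T) * w4 + (U) * w5 +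 (-W + T * U) * w6) + ((0) * v0 + (0) * v1 + (0) * v2 + (0) * v3 + (0) * v4 + (0) * v5 + (1) * v6) * ((0) * w0 + (0) * w1 + (1) * w2 + (T) * w3 + (-(T ^ 2)) * w4 + (W + T * U) * w5 + (X - T * W - T ^ 2 * U + S * T ^ 3) * w6) =
    (0) * (-((v0) * (w3)) - (v1) * (w2) + (v2) * (w1) + (v3) * (w0)) + (0) * (-((v0) * (w4)) + (v1) * (w3) - (v3) * (w1) + (v4) * (w0)) + (0) * ((v0) * (w5) + (v2) * (w3) - (v3) * (w2) - (v5) * (w0)) + (0) * (-((v0) * (w6)) + (v1) * (w5) + (v2) * (w4) - (v4) * (w2) - (v5) * (w1) + (v6) * (w0)) + (0) * ((v1) * (w6) + (v3) * (w4) - (v4) * (w3) - (v6) * (w1)) + (1) * (-((v2) * (w6)) + (v3) * (w5) - (v5) * (w3) + (v6) * (w2)) + (-T) * (-((v3) * (w6)) - (v4) * (w5) + (v5) * (w4) + (v6) * (w3)) := by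
  linear_combination (-(T * U * v5 * w6) + T * U * v6 * w5 - T * v3 * w6 + T * v6 * w3) * h3

private lemma cr_6 (h3 : (3 : K) = 0) (T S U X W Y v0 v1 v2 v3 v4 v5 v6 w0 w1 w2 w3 w4 w5 w6 : K) :
    -(((0) * v0 + (0) * v1 + (0) * v2 + (1) * v3 + (T) * v4 + (U) * v5 + (-W + T * U) * v6) * ((0) * w0 + (0) * w1 + (0) * w2 + (0) * w3 + (0) * w4 + (0) * w5 + (1) * w6)) - ((0) * v0 + (0) * v1 + (0) * v2 + (0) * v3 + (1) * v4 + (-S) * v5 + (U + S * T) * v6) * ((0) * w0 + (0) * w1 + (0) * w2 + (0) * w3 + (0) * w4 + (1) * w5 + (-T) * w6) + ((0) * v0 + (0) * v1 + (0) * v2 + (0) * v3 + (0) * v4 + (1) * v5 + (-T) * v6) * ((0) * w0 + (0) * w1 + (0) * w2 + (0) * w3 + (1) * w4 + (-S) * w5 + (U + S * T) * w6) + ((0) * v0 + (0) * v1 + (0) * v2 + (0) * v3 + (0) * v4 + (0) * v5 + (1) * v6) * ((0) * w0 + (0) * w1 + (0) * w2 + (1) * w3 + (T) * w4 + (U)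 * w5 + (-W + T * U) * w6) =
    (0) * (-((v0) * (w3)) - (v1) * (w2) + (v2) * (w1) + (v3) * (w0)) + (0) * (-((v0) * (w4)) + (v1) * (w3) - (v3) * (w1) + (v4) * (w0)) + (0) * ((v0) * (w5) + (v2) * (w3) - (v3) * (w2) - (v5) * (w0)) + (0) * (-((v0) * (w6)) + (v1) * (w5) + (v2) * (w4) - (v4) * (w2) - (v5) * (w1) + (v6) * (w0)) + (0) * ((v1) * (w6) + (v3) * (w4) - (v4) * (w3) - (v6) * (w1)) + (0) * (-((v2) * (w6)) + (v3) * (w5) - (v5) * (w3) + (v6) * (w2)) + (1) * (-((v3) * (w6)) - (v4) * (w5) + (v5) * (w4) + (v6) * (w3)) := by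
  ring

theorem M7_cross (h3 : (3 : K) = 0) (T S U X W Y : K) (v w : Fin 7 → K) :
    cross (Matrix.mulVec (M7 T S U X W Y) v) (Matrix.mulVec (M7 T S U X W Y) w) = Matrix.mulVec (M7 T S U X W Y) (cross v w) := by
  have e : ∀ (M : Matrix (Fin 7) (Fin 7) K) (u : Fin 7 → K) (i : Fin 7), Matrix.mulVec M u i =
      M i 0 * u 0 + M i 1 * u 1 + M i 2 * u 2 + M i 3 * u 3 + M i 4 * u 4 + M i 5 * u 5 + M i 6 * u 6 := by
    intro M u i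
    rw [Matrix.mulVec, dotProduct, Fin.sum_univ_seven]
  ext i
  rw [e (M7 T S U X W Y) (cross v w) i]
  fin_cases i
  · have := cr_0 h3 T S U X W Y (v 0) (v 1) (v 2) (v 3) (v 4) (v 5) (v 6) (w 0) (w 1) (w 2) (w 3) (w 4) (w 5) (w 6)
    simp only [cross, e]
    exact this
  · have := cr_1 h3 T S U X W Y (v 0) (v 1) (v 2) (v 3) (v 4) (v 5) (v 6) (w 0) (w 1) (w 2) (w 3) (w 4) (w 5) (w 6)
    simp only [cross, e]
    exact this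
  · have := cr_2 h3 T S U X W Y (v 0) (v 1) (v 2) (v 3) (v 4) (v 5) (v 6) (w 0) (w 1) (w 2) (w 3) (w 4) (w 5) (w 6)
    simp only [cross, e]
    exact this
  · have := cr_3 h3 T S U X W Y (v 0) (v 1) (v 2) (v 3) (v 4) (v 5) (v 6) (w 0) (w 1) (w 2) (w 3) (w 4) (w 5) (w 6)
    simp only [cross, e]
    exact this
  · have := cr_4 h3 T S U X W Y (v 0) (v 1) (v 2) (v 3) (v 4) (v 5) (v 6) (w 0) (w 1) (w 2) (w 3) (w 4) (w 5) (w 6)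
    simp only [cross, e]
    exact this
  · have := cr_5 h3 T S U X W Y (v 0) (v 1) (v 2) (v 3) (v 4) (v 5) (v 6) (w 0) (w 1) (w 2) (w 3) (w 4) (w 5) (w 6)
    simp only [cross, e]
    exact this
  · have := cr_6 h3 T S U X W Y (v 0) (v 1) (v 2) (v 3) (v 4) (v 5) (v 6) (w 0) (w 1) (w 2) (w 3) (w 4) (w 5) (w 6)
    simp only [cross, e]
    exact this

end Cfsg.Agent.Ree
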