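import Cfsg.Agent.Ree.Syl2
import Mathlib.RepresentationTheory.Irreducible
import Mathlib.LinearAlgebra.Trace
import Mathlib.Analysis.Fourier.FiniteAbelian.PontryaginDuality

set_option autoImplicit false
set_option maxHeartbeats 1000000

/-!
The minimal degree of a nontrivial representation of the Ree groups.
-/

namespace Cfsg.Agent.Ree

open Module

section Idem

variable {V : Type*} [AddCommGroup V] [Module ℂ V] [FiniteDimensional ℂ V]

lemma trace_idem {P : V →ₗ[ℂ] V} (h : P * P = P) : LinearMap.trace ℂ V P = finrank ℂ (LinearMap.range P) := by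
  have h1 : LinearMap.IsProj (LinearMap.range P) P := by
    refine ⟨fun v => ⟨v, rfl⟩, ?_⟩
    rintro _ ⟨v, rfl⟩
    exact congrArg (fun f : V →ₗ[ℂ] V => f v) h
  exact h1.trace

lemma idem_eq_zero {P : V →ₗ[ℂ] V} (h : P * P = P) (h0 : LinearMap.trace ℂ V P = 0) : P = 0 := by
  rw [trace_idem h] at h0
  have h1 : finrank ℂ (LinearMap.range P) = 0 := by exact_mod_cast h0
  rw [Submodule.finrank_eq_zero] at h1
  exact LinearMap.range_eq_bot.1 h1

lemma idem_eq_one {P : V →ₗ[ℂ] V} (h : P * P = P) (h0 : LinearMap.trace ℂ V P = finrank ℂ V) : P = 1 := by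
  rw [trace_idem h] at h0
  have h1 : finrank ℂ (LinearMap.range P) = finrank ℂ V := by exact_mod_cast h0
  have h2 := Submodule.eq_top_of_finrank_eq h1
  ext v
  have h3 : v ∈ LinearMap.range P := by rw [h2]; trivial
  obtain ⟨w, rfl⟩ := h3
  exact congrArg (fun f : V →ₗ[ℂ] V => f w) h

omit [FiniteDimensional ℂ V] in
/-- averaging over a finite abelian group with a character -/
lemma avg_idem {A : Type*} [AddCommGroup A] [Fintype A] (f : A → (V →ₗ[ℂ] V)) (hf : ∀ a b, f (a + b) = f a * f b)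
    (μ : AddChar A ℂ) : ((Fintype.card A : ℂ)⁻¹ • ∑ a, μ (-a) • f a) * ((Fintype.card A : ℂ)⁻¹ • ∑ a, μ (-a) • f a) =
      (Fintype.card A : ℂ)⁻¹ • ∑ a, μ (-a) • f a := by
  have hc : (Fintype.card A : ℂ) ≠ 0 := by
    have : 0 < Fintype.card A := Fintype.card_pos
    exact_mod_cast this.ne'
  have h1 : (∑ a, μ (-a) • f a) * (∑ a, μ (-a) • f a) = (Fintype.card A : ℂ) • ∑ a, μ (-a) • f a := by
    rw [Finset.sum_mul]
    have : ∀ a : A, (μ (-a) • f a) * (∑ b, μ (-b) • f b) = ∑ b, μ (-b) • f b := by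
      intro a
      rw [Finset.mul_sum]
      have h2 : ∀ b, (μ (-a) • f a) * (μ (-b) • f b) = μ (-(a + b)) • f (a + b) := by
        intro b
        rw [hf, smul_mul_smul_comm, ← AddChar.map_add_eq_mul, neg_add]
      rw [Finset.sum_congr rfl (fun b _ => h2 b)]
      exact Fintype.sum_equiv (Equiv.addLeft a) _ _ (fun b => rfl)
    rw [Finset.sum_congr rfl (fun a _ => this a), Finset.sum_const, Finset.card_univ, ← Nat.cast_smul_eq_nsmul ℂ]
  rw [smul_mul_smul_comm, h1, smul_smul, mul_assoc, inv_mul_cancel₀ hc, mul_one]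

end Idem

namespace RS

variable {K : Type*} [Field K] {τ : Tits K} {R : Type*} [Group R] (S : RS τ R)
variable {V : Type*} [AddCommGroup V] [Module ℂ V] [FiniteDimensional ℂ V] (ρ : Representation ℂ R V)

omit [FiniteDimensional ℂ V] in
lemma tr_conj (g h : R) : LinearMap.trace ℂ V (ρ (g * h * g⁻¹)) = LinearMap.trace ℂ V (ρ h) := by
  rw [map_mul, LinearMap.trace_mul_comm, ← map_mul]
  congr 2
  group

omit [FiniteDimensional ℂ V] in
lemma tr_x0 (U W : K) (hU : U ≠ 0) : LinearMap.trace ℂ V (ρ (S.x 0 U W)) = LinearMap.trace ℂ V (ρ (S.x 0 U 0)) := by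
  rw [← tr_conj ρ (S.x (W * U⁻¹) 0 0) (S.x 0 U 0)]
  congr 2
  rw [eq_mul_inv_iff_mul_eq, x_mul, x_mul]
  congr 1 <;> field_simp <;> simp

omit [FiniteDimensional ℂ V] in
lemma tr_x00 (W : K) (hW : W ≠ 0) : LinearMap.trace ℂ V (ρ (S.x 0 0 W)) = LinearMap.trace ℂ V (ρ (S.x 0 0 1)) := by
  rw [← tr_conj ρ (S.h (τ.kof (Units.mk0 W hW))) (S.x 0 0 1), h_conj_x, mul_zero, mul_zero, mul_one]
  rw [τ.kof_spec (Units.mk0 W hW)]
  rfl

omit [FiniteDimensional ℂ V] in
lemma tr_tx (W : K) : LinearMap.trace ℂ V (ρ (S.t * S.x 0 0 W)) = LinearMap.trace ℂ V (ρ S.t) := by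
  rw [← tr_conj ρ (S.x 0 0 W) S.t]
  congr 2
  rw [eq_mul_inv_iff_mul_eq, mul_assoc, x_mul]
  have h2 := S.neg_one_conj 0 0 (-W)
  rw [neg_zero, _root_.neg_neg, mul_inv_eq_iff_eq_mul] at h2
  rw [t_def, ← h2]
  congr 2 <;> try simp
  linear_combination (W) * τ.h3

section
variable [Fintype K] {m : ℕ} (hK : Fintype.card K = 3 ^ (2 * m + 1))

omit [FiniteDimensional ℂ V] [Fintype K] in
lemma tr_a [DecidableEq K] (W : K) : LinearMap.trace ℂ V (ρ (S.x 0 0 W)) = LinearMap.trace ℂ V (ρ (S.x 0 0 1)) +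
    (if W = 0 then LinearMap.trace ℂ V 1 - LinearMap.trace ℂ V (ρ (S.x 0 0 1)) else 0) := by
  split_ifs with h
  · rw [h, x_zero, map_one]; ring
  · rw [tr_x00 S ρ W h, add_zero]

lemma sum_neg_char (β : AddChar K ℂ) (hβ : β ≠ 1) : ∑ W : K, β (-W) = 0 := by
  rw [← AddChar.sum_eq_zero_of_ne_one hβ]
  exact Fintype.sum_equiv (Equiv.neg K) _ _ (fun b => rfl)

/-- projection to the fixed space of the center of `U` -/
noncomputable def P1 : V →ₗ[ℂ] V := (Fintype.card K : ℂ)⁻¹ • ∑ W : K, (1 : AddChar K ℂ) (-W) • ρ (S.x 0 0 W)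

omit [FiniteDimensional ℂ V] in
lemma P1_idem : P1 S ρ * P1 S ρ = P1 S ρ := by
  apply avg_idem (f := fun W : K => ρ (S.x 0 0 W))
  intro a b
  rw [← map_mul, x_mul]
  congr 2 <;> simp

omit [FiniteDimensional ℂ V] in
lemma P1_trace : LinearMap.trace ℂ V (P1 S ρ) = (Fintype.card K : ℂ)⁻¹ * ∑ W : K, LinearMap.trace ℂ V (ρ (S.x 0 0 W)) := by
  rw [P1, map_smul, map_sum, smul_eq_mul]
  congr 1
  apply Finset.sum_congr rfl
  intro W _
  rw [AddChar.one_apply, one_smul]

omit [FiniteDimensional ℂ V] in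
lemma P1_trace' : LinearMap.trace ℂ V (P1 S ρ) * Fintype.card K = Fintype.card K * LinearMap.trace ℂ V (ρ (S.x 0 0 1)) +
    (LinearMap.trace ℂ V 1 - LinearMap.trace ℂ V (ρ (S.x 0 0 1))) := by
  classical
  have hc : (Fintype.card K : ℂ) ≠ 0 := by exact_mod_cast Fintype.card_ne_zero
  rw [P1_trace, mul_comm, ← mul_assoc, mul_inv_cancel₀ hc, one_mul]
  have ha := tr_a S ρ
  generalize LinearMap.trace ℂ V (ρ (S.x 0 0 1)) = c at ha ⊢
  simp only [ha]
  rw [Finset.sum_add_distrib, Finset.sum_const, Finset.card_univ, nsmul_eq_mul]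
  congr 1
  rw [Finset.sum_ite_eq' Finset.univ (0 : K), if_pos (Finset.mem_univ _)]

lemma exists_N : ∃ N : ℕ, (N : ℂ) * (Fintype.card K : ℂ) ^ 2 = LinearMap.trace ℂ V 1 - LinearMap.trace ℂ V (ρ (S.x 0 0 1)) := by
  classical
  obtain ⟨β, hβ⟩ := AddChar.exists_apply_ne_zero.2 (one_ne_zero (α := K))
  have hβ1 : β ≠ 1 := by rintro rfl; exact hβ (AddChar.one_apply _)
  have hidem := avg_idem (f := fun p : K × K => ρ (S.x 0 p.1 p.2)) (by
    rintro ⟨a, b⟩ ⟨c, d⟩
    rw [← map_mul, x_mul]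
    congr 2 <;> simp) (β.compAddMonoidHom (AddMonoidHom.snd K K))
  refine ⟨finrank ℂ (LinearMap.range ((Fintype.card (K × K) : ℂ)⁻¹ • ∑ a : K × K, (β.compAddMonoidHom (AddMonoidHom.snd K K)) (-a) • ρ (S.x 0 a.1 a.2))), ?_⟩
  rw [← trace_idem hidem]
  have hc : (Fintype.card K : ℂ) ≠ 0 := by exact_mod_cast Fintype.card_ne_zero
  rw [map_smul, map_sum, smul_eq_mul, Fintype.card_prod, Nat.cast_mul, Fintype.sum_prod_type]
  have h1 : ∀ U W : K, LinearMap.trace ℂ V ((β.compAddMonoidHom (AddMonoidHom.snd K K)) (-(U, W)) • ρ (S.x 0 (U, W).1 (U, W).2)) =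
      β (-W) * LinearMap.trace ℂ V (ρ (S.x 0 U W)) := by
    intro U W
    rw [map_smul, smul_eq_mul]
    rfl
  simp only [h1]
  have h2 : ∀ U : K, (∑ W : K, β (-W) * LinearMap.trace ℂ V (ρ (S.x 0 U W))) =
      if U = 0 then LinearMap.trace ℂ V 1 - LinearMap.trace ℂ V (ρ (S.x 0 0 1)) else 0 := by
    intro U
    split_ifs with hU
    · subst hU
      have ha := tr_a S ρ
      generalize LinearMap.trace ℂ V (ρ (S.x 0 0 1)) = c at ha ⊢
      simp only [ha, mul_add]
      rw [Finset.sum_add_distrib, ← Finset.sum_mul, sum_neg_char β hβ1, zero_mul, zero_add]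
      simp only [mul_ite, mul_zero]
      rw [Finset.sum_ite_eq' Finset.univ (0 : K), if_pos (Finset.mem_univ _), neg_zero, AddChar.map_zero_eq_one, one_mul]
    · have ha : ∀ W, LinearMap.trace ℂ V (ρ (S.x 0 U W)) = _ := fun W => tr_x0 S ρ U W hU
      generalize LinearMap.trace ℂ V (ρ (S.x 0 U 0)) = c at ha ⊢
      simp only [ha]
      rw [← Finset.sum_mul, sum_neg_char β hβ1, zero_mul]
  simp only [h2]
  rw [Finset.sum_ite_eq' Finset.univ (0 : K), if_pos (Finset.mem_univ _)]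
  field_simp

omit [Fintype K] [FiniteDimensional ℂ V] in
/-- the average over a four-group -/
lemma four_idem : ((4 : ℂ)⁻¹ • (1 + ρ S.t + ρ S.n + ρ (S.t * S.n))) * ((4 : ℂ)⁻¹ • (1 + ρ S.t + ρ S.n + ρ (S.t * S.n))) =
    (4 : ℂ)⁻¹ • (1 + ρ S.t + ρ S.n + ρ (S.t * S.n)) := by
  have htt : ρ S.t * ρ S.t = 1 := by rw [← map_mul, t_mul_t, map_one]
  have hnn : ρ S.n * ρ S.n = 1 := by rw [← map_mul, n_mul_n, map_one]
  have htn : ρ S.t * ρ S.n = ρ S.n * ρ S.t := by rw [← map_mul, t_comm_n, map_mul]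
  rw [map_mul, smul_mul_smul_comm]
  generalize ρ S.t = a at *
  generalize ρ S.n = b at *
  have h1 : (1 + a + b + a * b) * (1 + a + b + a * b) = (4 : ℂ) • (1 + a + b + a * b) := by
    have e : (1 + a + b + a * b) = (1 + a) * (1 + b) := by noncomm_ring
    have e2 : (1 + b) * (1 + a) = (1 + a) * (1 + b) := by
      have : (1 + b) * (1 + a) = 1 + a + b + b * a := by noncomm_ring
      rw [this, ← htn]; noncomm_ring
    have ea : (1 + a) * (1 + a) = (2 : ℂ) • (1 + a) := by
      have : (1 + a) * (1 + a) = 1 + a + a + a * a := by noncomm_ring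
      rw [this, htt, two_smul]; abel
    have eb : (1 + b) * (1 + b) = (2 : ℂ) • (1 + b) := by
      have : (1 + b) * (1 + b) = 1 + b + b + b * b := by noncomm_ring
      rw [this, hnn, two_smul]; abel
    rw [e]
    calc (1 + a) * (1 + b) * ((1 + a) * (1 + b)) = (1 + a) * ((1 + b) * (1 + a)) * (1 + b) := by noncomm_ring
      _ = ((1 + a) * (1 + a)) * ((1 + b) * (1 + b)) := by rw [e2]; noncomm_ring
      _ = _ := by rw [ea, eb, smul_mul_smul_comm]; norm_num
  rw [h1, smul_smul]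
  norm_num

include S hK in
theorem min_deg (hq : 3 < Fintype.card K) (hirr : ρ.IsIrreducible) (hk : 2 ≤ finrank ℂ V) :
    Fintype.card K ^ 2 - Fintype.card K + 1 ≤ finrank ℂ V := by
  classical
  have hc : (Fintype.card K : ℂ) ≠ 0 := by exact_mod_cast Fintype.card_ne_zero
  obtain ⟨N, hN⟩ := exists_N S ρ
  have hP := trace_idem (P1_idem S ρ)
  have hP' := P1_trace' S ρ
  rw [hP] at hP'
  have h1 : LinearMap.trace ℂ V 1 = finrank ℂ V := LinearMap.trace_one ℂ V
  rw [h1] at hN hP'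
  have hdim : (finrank ℂ (LinearMap.range (P1 S ρ)) : ℂ) + (Fintype.card K : ℂ) * ((Fintype.card K : ℂ) - 1) * N = finrank ℂ V := by
    have : (Fintype.card K : ℂ) * ((finrank ℂ (LinearMap.range (P1 S ρ)) : ℂ) + (Fintype.card K : ℂ) * ((Fintype.card K : ℂ) - 1) * N) = (Fintype.card K : ℂ) * finrank ℂ V := by
      linear_combination hP' + ((Fintype.card K : ℂ) - 1) * hN
    exact mul_left_cancel₀ hc this
  have hdim' : finrank ℂ (LinearMap.range (P1 S ρ)) + Fintype.card K * (Fintype.card K - 1) * N = finrank ℂ V := by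
    have : ((finrank ℂ (LinearMap.range (P1 S ρ)) + Fintype.card K * (Fintype.card K - 1) * N : ℕ) : ℂ) = (finrank ℂ V : ℂ) := by
      rw [← hdim]
      push_cast [Nat.cast_sub (show 1 ≤ Fintype.card K by omega)]
      ring
    exact_mod_cast this
  rcases Nat.eq_zero_or_pos N with h0 | hNpos
  · -- the center of `U` acts trivially
    exfalso
    have hid : P1 S ρ = 1 := by
      apply idem_eq_one (P1_idem S ρ)
      rw [hP, ← hdim', h0, mul_zero, add_zero]
    have hx : ρ (S.x 0 0 1) = 1 := by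
      have h2 : ρ (S.x 0 0 1) * P1 S ρ = P1 S ρ := by
        rw [P1, mul_smul_comm, Finset.mul_sum]
        congr 1
        refine Fintype.sum_equiv (Equiv.addLeft (1 : K)) _ _ (fun W => ?_)
        rw [AddChar.one_apply, AddChar.one_apply, one_smul, one_smul, ← map_mul, x_mul]
        congr 2 <;> simp
      rwa [hid, mul_one] at h2
    have := S.simple hq
    have hker : (MonoidHom.ker ρ) = ⊤ := by
      rcases IsSimpleGroup.eq_bot_or_eq_top_of_normal (MonoidHom.ker ρ) inferInstance with h | h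
      · exfalso
        have h3 : S.x 0 0 1 ∈ MonoidHom.ker ρ := hx
        rw [h, Subgroup.mem_bot] at h3
        exact one_ne_zero (S.x_eq_one h3).2.2
      · exact h
    have htriv : ∀ g, ρ g = 1 := fun g => by
      have : g ∈ MonoidHom.ker ρ := by rw [hker]; trivial
      exact this
    have hpos : 0 < finrank ℂ V := by omega
    have := Module.finrank_pos_iff (R := ℂ) (M := V).1 hpos
    obtain ⟨v, hv⟩ := exists_ne (0 : V)
    let W : Subrepresentation ρ := ⟨ℂ ∙ v, fun g w hw => by rw [htriv]; exact hw⟩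
    rcases hirr.eq_bot_or_eq_top W with h | h
    · have : (ℂ ∙ v) = (⊥ : Submodule ℂ V) := congrArg Subrepresentation.toSubmodule h
      rw [Submodule.span_singleton_eq_bot] at this
      exact hv this
    · have : (ℂ ∙ v) = (⊤ : Submodule ℂ V) := congrArg Subrepresentation.toSubmodule h
      have h4 := finrank_span_singleton (K := ℂ) hv
      rw [this, finrank_top] at h4
      omega
  · by_contra hlt
    have hK2 : Fintype.card K * (Fintype.card K - 1) = Fintype.card K ^ 2 - Fintype.card K := by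
      rw [Nat.mul_sub, mul_one, sq]
    have hle : Fintype.card K * (Fintype.card K - 1) * 1 ≤ Fintype.card K * (Fintype.card K - 1) * N := Nat.mul_le_mul_left _ hNpos
    rw [hK2] at hle hdim'
    have hD : finrank ℂ (LinearMap.range (P1 S ρ)) = 0 := by omega
    have hV : finrank ℂ V = Fintype.card K ^ 2 - Fintype.card K := by omega
    have hP0 : P1 S ρ = 0 := idem_eq_zero (P1_idem S ρ) (by rw [hP, hD, Nat.cast_zero])
    have ht : LinearMap.trace ℂ V (ρ S.t) = 0 := by
      have h5 : LinearMap.trace ℂ V (ρ S.t * P1 S ρ) = LinearMap.trace ℂ V (ρ S.t) := by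
        rw [P1, mul_smul_comm, Finset.mul_sum, map_smul, map_sum]
        have h6 : ∀ W : K, LinearMap.trace ℂ V (ρ S.t * (1 : AddChar K ℂ) (-W) • ρ (S.x 0 0 W)) = LinearMap.trace ℂ V (ρ S.t) := by
          intro W
          rw [AddChar.one_apply, one_smul, ← map_mul, tr_tx]
        rw [Finset.sum_congr rfl (fun W _ => h6 W), Finset.sum_const, Finset.card_univ, nsmul_eq_mul, smul_eq_mul, ← mul_assoc,
          inv_mul_cancel₀ hc, one_mul]
      rw [← h5, hP0, mul_zero, map_zero]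
    have : Finite R := Nat.finite_of_card_ne_zero (by
      rw [S.card]
      have : 0 < Fintype.card K := Fintype.card_pos
      have : 0 < Fintype.card K - 1 := by omega
      positivity)
    have hinv : ∀ r : R, r ≠ 1 → r * r = 1 → LinearMap.trace ℂ V (ρ r) = 0 := by
      intro r hr1 hr2
      obtain ⟨g, hg⟩ := S.conj_t hK hr1 hr2
      rw [← tr_conj ρ g r, hg, ht]
    have hn := hinv S.n S.n_ne_one S.n_mul_n
    have htn := hinv (S.t * S.n) (by
      intro h
      apply S.t_ne_psi Tits.sw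
      rw [psi_sw]
      rw [mul_eq_one_iff_eq_inv, n_inv] at h
      exact h) (by
      have : S.t * S.n * (S.t * S.n) = S.t * (S.n * S.t) * S.n := by group
      rw [this, ← t_comm_n]
      have : S.t * (S.t * S.n) * S.n = (S.t * S.t) * (S.n * S.n) := by group
      rw [this, t_mul_t, n_mul_n, one_mul])
    have h7 := trace_idem (four_idem S ρ)
    rw [map_smul, map_add, map_add, map_add, ht, hn, htn, h1] at h7
    have h8 : (finrank ℂ V : ℂ) = (4 * finrank ℂ (LinearMap.range ((4 : ℂ)⁻¹ • (1 + ρ S.t + ρ S.n + ρ (S.t * S.n)))) : ℕ) := by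
      push_cast
      rw [← h7, smul_eq_mul]
      ring
    have h9 : finrank ℂ V = 4 * finrank ℂ (LinearMap.range ((4 : ℂ)⁻¹ • (1 + ρ S.t + ρ S.n + ρ (S.t * S.n)))) := by
      exact_mod_cast h8
    have h10 := q_mod m
    rw [← hK] at h10
    rw [hV, ← hK2] at h9
    obtain ⟨a, ha⟩ : ∃ a, Fintype.card K = 8 * a + 3 := ⟨Fintype.card K / 8, by omega⟩
    rw [ha] at h9
    have h11 : (8 * a + 3) * (8 * a + 3 - 1) = 4 * (16 * a * a + 10 * a + 1) + 2 := by
      have : 8 * a + 3 - 1 = 8 * a + 2 := by omega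
      rw [this]; ring
    rw [h11] at h9
    omega

end

end RS

end Cfsg.Agent.Ree
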