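import Mathlib
set_option autoImplicit false
set_option maxHeartbeats 4000000
set_option maxRecDepth 100000

/-! Polynomial identities in characteristic three for the Ree groups. -/

namespace Cfsg.Agent.Ree

theorem E1 {K : Type*} [Field K] (h3 : (3 : K) = 0) (T S U X W Y : K) :
    (T * Y - U * X - W ^ 2 - T * U * W - S * T ^ 3 * U + S ^ 2 * T ^ 4) =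
    T * (Y + S * X - U * W - S * T * W - S * T ^ 2 * U - S ^ 2 * T ^ 3) - (U + S * T) * (X - T * W - T ^ 2 * U + S * T ^ 3) - (-W + T * U) ^ 2 := by
  linear_combination (S ^ 2 * T ^ 4 - T * U * W) * h3

theorem E3 {K : Type*} [Field K] (h3 : (3 : K) = 0) (T S U X W Y : K) :
    (U + S * T) * (T * Y - U * X - W ^ 2 - T * U * W - S * T ^ 3 * U + S ^ 2 * T ^ 4) ^ 2 * (S * W ^ 3 - X * U ^ 3 - Y ^ 2 - S * X * Y - T ^ 3 * S ^ 3 * X + (T ^ 3) ^ 2 * S ^ 4) =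
    (U ^ 3 - S * Y - S ^ 2 * X + T ^ 3 * S ^ 3) * (T * Y - U * X - W ^ 2 - T * U * W - S * T ^ 3 * U + S ^ 2 * T ^ 4) ^ 3 - (Y + S * X - U * W - S * T * W - S * T ^ 2 * U - S ^ 2 * T ^ 3) * (-W + T * U) * (T * Y - U * X - W ^ 2 - T * U * W - S * T ^ 3 * U + S ^ 2 * T ^ 4) * (S * W ^ 3 - X * U ^ 3 - Y ^ 2 - S * X * Y - T ^ 3 * S ^ 3 * X + (T ^ 3) ^ 2 * S ^ 4) + (Y + S * X - U * W - S * T * W - S * T ^ 2 * U - S ^ 2 * T ^ 3) ^ 2 * (X - T * W - T ^ 2 * U + S * T ^ 3) * (S * W ^ 3 - X * U ^ 3 - Y ^ 2 - S * X * Y - T ^ 3 * S ^ 3 * X + (T ^ 3) ^ 2 * S ^ 4) - (Y + S * X - U * W - S * T * W - S * T ^ 2 * U - S ^ 2 * T ^ 3) ^ 3 * (W ^ 3 + T ^ 3 * U ^ 3 -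 X * Y - T ^ 3 * S * Y - T ^ 3 * S ^ 2 * X - (T ^ 3) ^ 2 * S ^ 3) := by
  linear_combination (2 * S * T * U * W ^ 2 * X * Y ^ 2 - 3 * S * T * U ^ 2 * W ^ 3 * X * Y + 2 * S * T * U ^ 2 * X ^ 2 * Y ^ 2 - 3 * S * T * U ^ 3 * W * X ^ 2 * Y + S * T * U ^ 3 * W ^ 4 * X + S * T * U ^ 4 * W ^ 2 * X ^ 2 + S * T ^ 2 * U * W ^ 3 * Y ^ 2 - 2 * S * T ^ 2 * U * X * Y ^ 3 + 3 * S * T ^ 2 * U ^ 2 * W * X * Y ^ 2 - S * T ^ 2 * U ^ 2 * W ^ 4 * Y - S * T ^ 2 * U ^ 4 * W ^ 3 * X - S * T ^ 2 * U ^ 4 * X ^ 2 * Y + S * T ^ 2 * U ^ 5 * W * X ^ 2 + S * T ^ 3 * U * W * Y ^ 3 - 2 * S * T ^ 3 * U ^ 2 * W ^ 2 * Y ^ 2 - S * T ^ 3 * U ^ 4 * W * X * Y + S * T ^ 3 * U ^ 4 * W ^ 4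 + S * T ^ 3 * U ^ 5 * W ^ 2 * X + 2 * S * T ^ 4 * U ^ 2 * Y ^ 3 - 3 * S * T ^ 4 * U ^ 3 * W * Y ^ 2 + S * T ^ 4 * U ^ 5 * W ^ 3 - 2 * S * U * W ^ 4 * X * Y - 2 * S * U ^ 2 * W ^ 2 * X ^ 2 * Y + S * U ^ 2 * W ^ 5 * X - S * U ^ 4 * W * X ^ 3 + S ^ 2 * T * U * W ^ 2 * X ^ 2 * Y - 2 * S ^ 2 * T * U ^ 2 * W ^ 3 * X ^ 2 + S ^ 2 * T * U ^ 2 * X ^ 3 * Y - 2 * S ^ 2 * T * U ^ 3 * W * X ^ 3 + S ^ 2 * T ^ 2 * U * W ^ 3 * X * Y - S ^ 2 * T ^ 2 * U * X ^ 2 * Y ^ 2 + S ^ 2 * T ^ 2 * U ^ 2 * W * X ^ 2 * Y - S ^ 2 * T ^ 2 * U ^ 4 * X ^ 3 + S ^ 2 * T ^ 3 * U * W * X * Y ^ 2 + 2 * S ^ 2 * T ^ 3 * U * W ^ 4 * Y - 2 * S ^ 2 * T ^ 3 * U ^ 2 * W ^ 2 * X * Y - S ^ 2 *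 T ^ 3 * U ^ 2 * W ^ 5 + S ^ 2 * T ^ 3 * U ^ 3 * W ^ 3 * X - S ^ 2 * T ^ 3 * U ^ 3 * X ^ 2 * Y + S ^ 2 * T ^ 3 * U ^ 4 * W * X ^ 2 - S ^ 2 * T ^ 3 * W ^ 3 * Y ^ 2 - S ^ 2 * T ^ 4 * U * W ^ 2 * Y ^ 2 - 2 * S ^ 2 * T ^ 4 * U ^ 2 * W ^ 3 * Y + 4 * S ^ 2 * T ^ 4 * U ^ 2 * X * Y ^ 2 - 5 * S ^ 2 * T ^ 4 * U ^ 3 * W * X * Y - S ^ 2 * T ^ 4 * U ^ 4 * W ^ 2 * X + S ^ 2 * T ^ 4 * W * Y ^ 3 - S ^ 2 * T ^ 5 * U ^ 2 * W * Y ^ 2 + 3 * S ^ 2 * T ^ 5 * U ^ 3 * W ^ 2 * Y - 3 * S ^ 2 * T ^ 5 * U ^ 4 * W ^ 3 - S ^ 2 * T ^ 5 * U ^ 5 * W * X - 3 * S ^ 2 * T ^ 6 * U ^ 3 * Y ^ 2 + 6 * S ^ 2 * T ^ 6 * U ^ 4 * W * Y - 3 * S ^ 2 * T ^ 6 * U ^ 5 * W ^ 2 - S ^ 2 * U * W ^ 4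 * X ^ 2 - S ^ 2 * U ^ 2 * W ^ 2 * X ^ 3 + 2 * S ^ 3 * T ^ 3 * U * W ^ 4 * X - 2 * S ^ 3 * T ^ 3 * U ^ 2 * W ^ 2 * X ^ 2 - S ^ 3 * T ^ 3 * U ^ 3 * X ^ 3 - 2 * S ^ 3 * T ^ 3 * W ^ 3 * X * Y + S ^ 3 * T ^ 4 * U * W ^ 2 * X * Y - S ^ 3 * T ^ 4 * U * W ^ 5 + 3 * S ^ 3 * T ^ 4 * U ^ 2 * X ^ 2 * Y - 2 * S ^ 3 * T ^ 4 * U ^ 3 * W * X ^ 2 + 2 * S ^ 3 * T ^ 4 * W * X * Y ^ 2 + 2 * S ^ 3 * T ^ 4 * W ^ 4 * Y + 3 * S ^ 3 * T ^ 5 * U * W ^ 3 * Y - S ^ 3 * T ^ 5 * U * X * Y ^ 2 + 2 * S ^ 3 * T ^ 5 * U ^ 2 * W * X * Y - S ^ 3 * T ^ 5 * U ^ 2 * W ^ 4 + S ^ 3 * T ^ 5 * U ^ 3 * W ^ 2 * X - 2 * S ^ 3 * T ^ 5 * W ^ 2 * Y ^ 2 - 3 * S ^ 3 * T ^ 6 * U * W * Y ^ 2 + S ^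 3 * T ^ 6 * U ^ 2 * W ^ 2 * Y + S ^ 3 * T ^ 6 * U ^ 3 * W ^ 3 - 5 * S ^ 3 * T ^ 6 * U ^ 3 * X * Y + 5 * S ^ 3 * T ^ 6 * U ^ 4 * W * X + 2 * S ^ 3 * T ^ 7 * U ^ 3 * W * Y - 5 * S ^ 3 * T ^ 7 * U ^ 4 * W ^ 2 - S ^ 3 * T ^ 7 * U ^ 5 * X + 4 * S ^ 3 * T ^ 8 * U ^ 4 * Y - 5 * S ^ 3 * T ^ 8 * U ^ 5 * W - S ^ 4 * T ^ 3 * W ^ 3 * X ^ 2 + S ^ 4 * T ^ 4 * U * W ^ 2 * X ^ 2 + S ^ 4 * T ^ 4 * U ^ 2 * X ^ 3 + S ^ 4 * T ^ 4 * W * X ^ 2 * Y + 2 * S ^ 4 * T ^ 4 * W ^ 4 * X + 3 * S ^ 4 * T ^ 5 * U * W ^ 3 * X - S ^ 4 * T ^ 5 * U * X ^ 2 * Y + S ^ 4 * T ^ 5 * U ^ 2 * W * X ^ 2 - 2 * S ^ 4 * T ^ 5 * W ^ 2 * X * Y - S ^ 4 * T ^ 5 * W ^ 5 - 2 * S ^ 4 * T ^ 6 * U * W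 * X * Y - 3 * S ^ 4 * T ^ 6 * U * W ^ 4 + 2 * S ^ 4 * T ^ 6 * U ^ 2 * W ^ 2 * X - 2 * S ^ 4 * T ^ 6 * U ^ 3 * X ^ 2 + 3 * S ^ 4 * T ^ 6 * W ^ 3 * Y + 3 * S ^ 4 * T ^ 7 * U ^ 2 * W ^ 3 + S ^ 4 * T ^ 7 * U ^ 2 * X * Y + 3 * S ^ 4 * T ^ 7 * U ^ 3 * W * X - S ^ 4 * T ^ 7 * W * Y ^ 2 - S ^ 4 * T ^ 8 * U ^ 2 * W * Y + 3 * S ^ 4 * T ^ 8 * U ^ 3 * W ^ 2 + 4 * S ^ 4 * T ^ 8 * U ^ 4 * X - 2 * S ^ 4 * T ^ 9 * U ^ 4 * W - 2 * S ^ 4 * T ^ 10 * U ^ 5 + 2 * S ^ 5 * T ^ 6 * W ^ 3 * X - S ^ 5 * T ^ 7 * U * W ^ 2 * X + S ^ 5 * T ^ 7 * U ^ 2 * X ^ 2 - 2 * S ^ 5 * T ^ 7 * W ^ 4 - 2 * S ^ 5 * T ^ 8 * U * W ^ 3 - S ^ 5 * T ^ 8 * U ^ 2 * W * X - S ^ 5 * T ^ 9 * U * W *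 Y + 5 * S ^ 5 * T ^ 9 * U ^ 2 * W ^ 2 + 2 * S ^ 5 * T ^ 9 * U ^ 3 * X - 2 * S ^ 5 * T ^ 10 * U ^ 2 * Y + 3 * S ^ 5 * T ^ 10 * U ^ 3 * W + S ^ 6 * T ^ 7 * W * X ^ 2 - 2 * S ^ 6 * T ^ 8 * W ^ 2 * X - 3 * S ^ 6 * T ^ 9 * U * W * X + 2 * S ^ 6 * T ^ 10 * U * W ^ 2 - 2 * S ^ 6 * T ^ 10 * U ^ 2 * X - S ^ 6 * T ^ 10 * W * Y + 2 * S ^ 6 * T ^ 11 * U ^ 2 * W + S ^ 6 * T ^ 12 * U ^ 3 - 2 * S ^ 7 * T ^ 10 * W * X - S ^ 7 * T ^ 11 * U * X + 2 * S ^ 7 * T ^ 11 * W ^ 2 + 3 * S ^ 7 * T ^ 12 * U * W + S ^ 8 * T ^ 13 * W + S ^ 8 * T ^ 14 * U + T * U * W ^ 2 * Y ^ 3 - T * U ^ 2 * W ^ 3 * Y ^ 2 + T * U ^ 2 * X * Y ^ 3 - T * U ^ 3 * W * X * Y ^ 2 - T * U ^ 3 * W ^ 4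 * Y - T * U ^ 4 * W ^ 2 * X * Y + T * U ^ 4 * W ^ 5 + T * U ^ 5 * W ^ 3 * X - T ^ 2 * U * Y ^ 4 + 2 * T ^ 2 * U ^ 2 * W * Y ^ 3 - 2 * T ^ 2 * U ^ 4 * W ^ 3 * Y + T ^ 2 * U ^ 5 * W ^ 4 - U * W ^ 4 * Y ^ 2 - U ^ 2 * W ^ 2 * X * Y ^ 2 + U ^ 2 * W ^ 5 * Y - U ^ 4 * W * X ^ 2 * Y + U ^ 4 * W ^ 4 * X + U ^ 5 * W ^ 2 * X ^ 2) * h3

theorem E2 {K : Type*} [Field K] (h3 : (3 : K) = 0) (T S U X W Y : K) :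
    -(T * (T * Y - U * X - W ^ 2 - T * U * W - S * T ^ 3 * U + S ^ 2 * T ^ 4) ^ 2 * (S * W ^ 3 - X * U ^ 3 - Y ^ 2 - S * X * Y - T ^ 3 * S ^ 3 * X + (T ^ 3) ^ 2 * S ^ 4) ^ 2) =
    -((-Y + S * X) * (T * Y - U * X - W ^ 2 - T * U * W - S * T ^ 3 * U + S ^ 2 * T ^ 4) ^ 3 * (S * W ^ 3 - X * U ^ 3 - Y ^ 2 - S * X * Y - T ^ 3 * S ^ 3 * X + (T ^ 3) ^ 2 * S ^ 4)) + (W ^ 3 + T ^ 3 * U ^ 3 - X * Y - T ^ 3 * S * Y - T ^ 3 * S ^ 2 * X - (T ^ 3) ^ 2 * S ^ 3) * (U ^ 3 - S * Y - S ^ 2 * X + T ^ 3 * S ^ 3) * (T * Y - U * X - W ^ 2 - T * U * W - S * T ^ 3 * U + S ^ 2 * T ^ 4) ^ 3 - (Y + S * X - U * W - S * T * W - S * T ^ 2 * U - S ^ 2 * T ^ 3) ^ 3 * (W ^ 3 + T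 ^ 3 * U ^ 3 - X * Y - T ^ 3 * S * Y - T ^ 3 * S ^ 2 * X - (T ^ 3) ^ 2 * S ^ 3) ^ 2 + (Y + S * X - U * W - S * T * W - S * T ^ 2 * U - S ^ 2 * T ^ 3) * (X - T * W - T ^ 2 * U + S * T ^ 3) ^ 2 * (S * W ^ 3 - X * U ^ 3 - Y ^ 2 - S * X * Y - T ^ 3 * S ^ 3 * X + (T ^ 3) ^ 2 * S ^ 4) ^ 2 + (X - T * W - T ^ 2 * U + S * T ^ 3) * (-W + T * U) * (T * Y - U * X - W ^ 2 - T * U * W - S * T ^ 3 * U + S ^ 2 * T ^ 4) * (S * W ^ 3 - X * U ^ 3 - Y ^ 2 - S * X * Y - T ^ 3 * S ^ 3 * X + (T ^ 3) ^ 2 * S ^ 4) ^ 2 := by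
  linear_combination (-(2 * S * T * U * W ^ 2 * X ^ 2 * Y ^ 3) - S * T * U * W ^ 5 * X * Y ^ 2 + 2 * S * T * U * W ^ 8 * Y + S * T * U ^ 2 * W ^ 3 * X ^ 2 * Y ^ 2 + 2 * S * T * U ^ 2 * W ^ 6 * X * Y - S * T * U ^ 2 * W ^ 9 - S * T * U ^ 2 * X ^ 3 * Y ^ 3 + 5 * S * T * U ^ 3 * W * X ^ 3 * Y ^ 2 - 3 * S * T * U ^ 3 * W ^ 4 * X ^ 2 * Y - 4 * S * T * U ^ 4 * W ^ 2 * X ^ 3 * Y + 3 * S * T * U ^ 4 * W ^ 5 * X ^ 2 + 2 * S * T * U ^ 5 * W ^ 3 * X ^ 3 - S * T * U ^ 5 * X ^ 4 * Y + 2 * S * T * U ^ 6 * W * X ^ 4 + 2 * S * T * W * X ^ 2 * Y ^ 4 - S * T * W ^ 4 * X * Y ^ 3 - S * T * W ^ 7 * Y ^ 2 - 2 * S * T ^ 2 * U * W ^ 3 * X * Y ^ 3 - S * T ^ 2 * U * W ^ 6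 * Y ^ 2 + 3 * S * T ^ 2 * U * X ^ 2 * Y ^ 4 - 2 * S * T ^ 2 * U ^ 2 * W * X ^ 2 * Y ^ 3 - S * T ^ 2 * U ^ 2 * W ^ 4 * X * Y ^ 2 + 2 * S * T ^ 2 * U ^ 2 * W ^ 7 * Y - S * T ^ 2 * U ^ 3 * W ^ 2 * X ^ 2 * Y ^ 2 + 2 * S * T ^ 2 * U ^ 3 * W ^ 5 * X * Y - S * T ^ 2 * U ^ 3 * W ^ 8 - 4 * S * T ^ 2 * U ^ 4 * W ^ 3 * X ^ 2 * Y + 5 * S * T ^ 2 * U ^ 4 * X ^ 3 * Y ^ 2 - 4 * S * T ^ 2 * U ^ 5 * W * X ^ 3 * Y + 3 * S * T ^ 2 * U ^ 5 * W ^ 4 * X ^ 2 + S * T ^ 2 * U ^ 7 * X ^ 4 - 3 * S * T ^ 3 * U * W * X * Y ^ 4 + S * T ^ 3 * U * W ^ 4 * Y ^ 3 - S * T ^ 3 * U ^ 2 * W ^ 2 * X * Y ^ 3 - 2 * S * T ^ 3 * U ^ 2 * W ^ 5 * Y ^ 2 + 3 * S * T ^ 3 * U ^ 3 * W ^ 3 * X *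 Y ^ 2 - 6 * S * T ^ 3 * U ^ 3 * X ^ 2 * Y ^ 3 + S * T ^ 3 * U ^ 4 * W * X ^ 2 * Y ^ 2 - 8 * S * T ^ 3 * U ^ 4 * W ^ 4 * X * Y + S * T ^ 3 * U ^ 4 * W ^ 7 - 9 * S * T ^ 3 * U ^ 5 * W ^ 2 * X ^ 2 * Y + 4 * S * T ^ 3 * U ^ 5 * W ^ 5 * X + 2 * S * T ^ 3 * U ^ 6 * W ^ 3 * X ^ 2 - 4 * S * T ^ 3 * U ^ 6 * X ^ 3 * Y - 2 * S * T ^ 3 * U ^ 7 * W * X ^ 3 - S * T ^ 3 * X * Y ^ 5 + 2 * S * T ^ 4 * U * W ^ 2 * Y ^ 4 - 2 * S * T ^ 4 * U ^ 2 * W ^ 3 * Y ^ 3 + S * T ^ 4 * U ^ 2 * X * Y ^ 4 + 2 * S * T ^ 4 * U ^ 3 * W * X * Y ^ 3 + 4 * S * T ^ 4 * U ^ 4 * W ^ 2 * X * Y ^ 2 - 8 * S * T ^ 4 * U ^ 5 * W ^ 3 * X * Y + 4 * S * T ^ 4 * U ^ 5 * X ^ 2 * Y ^ 2 - 5 * S * T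 ^ 4 * U ^ 6 * W * X ^ 2 * Y + 2 * S * T ^ 4 * U ^ 6 * W ^ 4 * X - S * T ^ 4 * U ^ 8 * X ^ 3 + S * T ^ 4 * W * Y ^ 5 + 2 * S * T ^ 5 * U ^ 2 * W * Y ^ 4 - 3 * S * T ^ 5 * U ^ 3 * W ^ 2 * Y ^ 3 + 3 * S * T ^ 5 * U ^ 4 * W ^ 3 * Y ^ 2 + 4 * S * T ^ 5 * U ^ 5 * W * X * Y ^ 2 - 2 * S * T ^ 5 * U ^ 6 * W ^ 2 * X * Y - S * T ^ 5 * U ^ 6 * W ^ 5 + S * T ^ 5 * U ^ 7 * X ^ 2 * Y + S * T ^ 6 * U ^ 6 * X * Y ^ 2 - 2 * S * T ^ 6 * U ^ 7 * W * X * Y + S * T ^ 6 * U ^ 7 * W ^ 4 + 3 * S * T ^ 6 * U ^ 8 * W ^ 2 * X + S * T ^ 6 * U ^ 9 * X ^ 2 - S * T ^ 7 * U ^ 6 * W * Y ^ 2 + S * T ^ 7 * U ^ 8 * W ^ 3 - 2 * S * T ^ 7 * U ^ 8 * X * Y + 2 * S * T ^ 7 * U ^ 9 * W *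 X - 2 * S * U * W * X ^ 3 * Y ^ 3 + 5 * S * U * W ^ 4 * X ^ 2 * Y ^ 2 - 2 * S * U * W ^ 7 * X * Y + 2 * S * U ^ 2 * W ^ 2 * X ^ 3 * Y ^ 2 - 2 * S * U ^ 2 * W ^ 5 * X ^ 2 * Y + S * U ^ 2 * W ^ 8 * X + S * U ^ 3 * W ^ 6 * X ^ 2 - S * U ^ 3 * X ^ 4 * Y ^ 2 + S * U ^ 4 * W ^ 4 * X ^ 3 + S * U ^ 5 * W ^ 2 * X ^ 4 - 2 * S * W ^ 3 * X ^ 2 * Y ^ 3 + 2 * S * W ^ 6 * X * Y ^ 2 - 3 * S ^ 2 * T * U * W ^ 2 * X ^ 3 * Y ^ 2 + 4 * S ^ 2 * T * U * W ^ 5 * X ^ 2 * Y - S ^ 2 * T * U * W ^ 8 * X + 6 * S ^ 2 * T * U ^ 2 * W ^ 3 * X ^ 3 * Y - 4 * S ^ 2 * T * U ^ 2 * W ^ 6 * X ^ 2 - 2 * S ^ 2 * T * U ^ 2 * X ^ 4 * Y ^ 2 + 4 * S ^ 2 * T * U ^ 3 * W * X ^ 4 * Y - 4 * S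 ^ 2 * T * U ^ 3 * W ^ 4 * X ^ 3 + S ^ 2 * T * W * X ^ 3 * Y ^ 3 - 2 * S ^ 2 * T * W ^ 4 * X ^ 2 * Y ^ 2 + S ^ 2 * T * W ^ 7 * X * Y - 7 * S ^ 2 * T ^ 2 * U * W ^ 3 * X ^ 2 * Y ^ 2 + 5 * S ^ 2 * T ^ 2 * U * W ^ 6 * X * Y - S ^ 2 * T ^ 2 * U * W ^ 9 + 3 * S ^ 2 * T ^ 2 * U * X ^ 3 * Y ^ 3 - 3 * S ^ 2 * T ^ 2 * U ^ 2 * W * X ^ 3 * Y ^ 2 + 4 * S ^ 2 * T ^ 2 * U ^ 2 * W ^ 4 * X ^ 2 * Y - S ^ 2 * T ^ 2 * U ^ 2 * W ^ 7 * X - 2 * S ^ 2 * T ^ 2 * U ^ 4 * W ^ 3 * X ^ 3 + 2 * S ^ 2 * T ^ 2 * U ^ 4 * X ^ 4 * Y + S ^ 2 * T ^ 2 * W ^ 2 * X ^ 2 * Y ^ 3 - 2 * S ^ 2 * T ^ 2 * W ^ 5 * X * Y ^ 2 + S ^ 2 * T ^ 2 * W ^ 8 * Y - 4 * S ^ 2 * T ^ 3 * U * W * X ^ 2 * Y ^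 3 + 2 * S ^ 2 * T ^ 3 * U * W ^ 4 * X * Y ^ 2 + 4 * S ^ 2 * T ^ 3 * U * W ^ 7 * Y + 2 * S ^ 2 * T ^ 3 * U ^ 2 * W ^ 2 * X ^ 2 * Y ^ 2 + 4 * S ^ 2 * T ^ 3 * U ^ 2 * W ^ 5 * X * Y - 3 * S ^ 2 * T ^ 3 * U ^ 2 * W ^ 8 + 4 * S ^ 2 * T ^ 3 * U ^ 3 * W ^ 3 * X ^ 2 * Y - S ^ 2 * T ^ 3 * U ^ 3 * W ^ 6 * X - 3 * S ^ 2 * T ^ 3 * U ^ 3 * X ^ 3 * Y ^ 2 - 2 * S ^ 2 * T ^ 3 * U ^ 4 * W * X ^ 3 * Y + S ^ 2 * T ^ 3 * U ^ 4 * W ^ 4 * X ^ 2 + 2 * S ^ 2 * T ^ 3 * W ^ 3 * X * Y ^ 3 - S ^ 2 * T ^ 3 * W ^ 6 * Y ^ 2 - S ^ 2 * T ^ 3 * X ^ 2 * Y ^ 4 + 2 * S ^ 2 * T ^ 4 * U * W ^ 2 * X * Y ^ 3 - 3 * S ^ 2 * T ^ 4 * U * W ^ 5 * Y ^ 2 + 2 * S ^ 2 * T ^ 4 * U ^ 2 * W ^ 3 * X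 * Y ^ 2 + 3 * S ^ 2 * T ^ 4 * U ^ 2 * W ^ 6 * Y - 3 * S ^ 2 * T ^ 4 * U ^ 2 * X ^ 2 * Y ^ 3 + 10 * S ^ 2 * T ^ 4 * U ^ 3 * W * X ^ 2 * Y ^ 2 - 2 * S ^ 2 * T ^ 4 * U ^ 3 * W ^ 7 + 2 * S ^ 2 * T ^ 4 * U ^ 4 * W ^ 2 * X ^ 2 * Y - S ^ 2 * T ^ 4 * U ^ 5 * W ^ 3 * X ^ 2 + S ^ 2 * T ^ 4 * U ^ 6 * W * X ^ 3 + S ^ 2 * T ^ 4 * W * X * Y ^ 4 + S ^ 2 * T ^ 5 * U * X * Y ^ 4 + 2 * S ^ 2 * T ^ 5 * U ^ 2 * W * X * Y ^ 3 - 3 * S ^ 2 * T ^ 5 * U ^ 2 * W ^ 4 * Y ^ 2 - 8 * S ^ 2 * T ^ 5 * U ^ 3 * W ^ 2 * X * Y ^ 2 + 6 * S ^ 2 * T ^ 5 * U ^ 3 * W ^ 5 * Y + 6 * S ^ 2 * T ^ 5 * U ^ 4 * W ^ 3 * X * Y - 4 * S ^ 2 * T ^ 5 * U ^ 4 * W ^ 6 + 3 * S ^ 2 * T ^ 5 * U ^ 4 * X ^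 2 * Y ^ 2 + 2 * S ^ 2 * T ^ 5 * U ^ 5 * W * X ^ 2 * Y - S ^ 2 * T ^ 5 * U ^ 6 * W ^ 2 * X ^ 2 + S ^ 2 * T ^ 5 * U ^ 7 * X ^ 3 - S ^ 2 * T ^ 5 * W ^ 2 * Y ^ 4 - 2 * S ^ 2 * T ^ 6 * U * W * Y ^ 4 - 3 * S ^ 2 * T ^ 6 * U ^ 3 * W ^ 3 * Y ^ 2 - S ^ 2 * T ^ 6 * U ^ 3 * X * Y ^ 3 - 8 * S ^ 2 * T ^ 6 * U ^ 4 * W * X * Y ^ 2 + 8 * S ^ 2 * T ^ 6 * U ^ 4 * W ^ 4 * Y - 6 * S ^ 2 * T ^ 6 * U ^ 5 * W ^ 5 + S ^ 2 * T ^ 6 * U ^ 6 * W ^ 3 * X - 4 * S ^ 2 * T ^ 6 * U ^ 6 * X ^ 2 * Y - S ^ 2 * T ^ 6 * U ^ 7 * W * X ^ 2 + S ^ 2 * T ^ 7 * U ^ 2 * Y ^ 4 + S ^ 2 * T ^ 7 * U ^ 3 * W * Y ^ 3 - S ^ 2 * T ^ 7 * U ^ 5 * W ^ 3 * Y + 4 * S ^ 2 * T ^ 7 * U ^ 5 * X * Y ^ 2 - 6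 * S ^ 2 * T ^ 7 * U ^ 6 * W * X * Y - 2 * S ^ 2 * T ^ 7 * U ^ 6 * W ^ 4 - S ^ 2 * T ^ 7 * U ^ 8 * X ^ 2 + 3 * S ^ 2 * T ^ 8 * U ^ 6 * W ^ 2 * Y - 3 * S ^ 2 * T ^ 8 * U ^ 7 * W ^ 3 - 2 * S ^ 2 * T ^ 9 * U ^ 6 * Y ^ 2 + 6 * S ^ 2 * T ^ 9 * U ^ 7 * W * Y - 3 * S ^ 2 * T ^ 9 * U ^ 8 * W ^ 2 + S ^ 2 * T ^ 9 * U ^ 9 * X - S ^ 2 * U * W * X ^ 4 * Y ^ 2 + 4 * S ^ 2 * U * W ^ 4 * X ^ 3 * Y - 3 * S ^ 2 * U * W ^ 7 * X ^ 2 + 2 * S ^ 2 * U ^ 2 * W ^ 2 * X ^ 4 * Y - 2 * S ^ 2 * U ^ 2 * W ^ 5 * X ^ 3 - S ^ 2 * W ^ 3 * X ^ 3 * Y ^ 2 + 2 * S ^ 2 * W ^ 6 * X ^ 2 * Y - S ^ 2 * W ^ 9 * X - 4 * S ^ 3 * T ^ 3 * U * W * X ^ 3 * Y ^ 2 + 4 * S ^ 3 * T ^ 3 * U * W ^ 4 *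 X ^ 2 * Y + S ^ 3 * T ^ 3 * U * W ^ 7 * X + 6 * S ^ 3 * T ^ 3 * U ^ 2 * W ^ 2 * X ^ 3 * Y - 5 * S ^ 3 * T ^ 3 * U ^ 2 * W ^ 5 * X ^ 2 - S ^ 3 * T ^ 3 * U ^ 3 * W ^ 3 * X ^ 3 + S ^ 3 * T ^ 3 * W ^ 3 * X ^ 2 * Y ^ 2 - 2 * S ^ 3 * T ^ 3 * W ^ 6 * X * Y - 3 * S ^ 3 * T ^ 4 * U * W ^ 2 * X ^ 2 * Y ^ 2 - 2 * S ^ 3 * T ^ 4 * U * W ^ 8 + 5 * S ^ 3 * T ^ 4 * U ^ 2 * W ^ 3 * X ^ 2 * Y - 5 * S ^ 3 * T ^ 4 * U ^ 2 * X ^ 3 * Y ^ 2 + 10 * S ^ 3 * T ^ 4 * U ^ 3 * W * X ^ 3 * Y - 8 * S ^ 3 * T ^ 4 * U ^ 3 * W ^ 4 * X ^ 2 - 4 * S ^ 3 * T ^ 4 * U ^ 4 * W ^ 2 * X ^ 3 - S ^ 3 * T ^ 4 * U ^ 5 * X ^ 4 + S ^ 3 * T ^ 4 * W * X ^ 2 * Y ^ 3 - 3 * S ^ 3 * T ^ 4 * W ^ 4 * X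 * Y ^ 2 + 2 * S ^ 3 * T ^ 4 * W ^ 7 * Y - 7 * S ^ 3 * T ^ 5 * U * W ^ 3 * X * Y ^ 2 + 3 * S ^ 3 * T ^ 5 * U * W ^ 6 * Y + 5 * S ^ 3 * T ^ 5 * U * X ^ 2 * Y ^ 3 - 3 * S ^ 3 * T ^ 5 * U ^ 2 * W * X ^ 2 * Y ^ 2 - 2 * S ^ 3 * T ^ 5 * U ^ 2 * W ^ 7 + 3 * S ^ 3 * T ^ 5 * U ^ 3 * W ^ 5 * X - 6 * S ^ 3 * T ^ 5 * U ^ 4 * W ^ 3 * X ^ 2 + 8 * S ^ 3 * T ^ 5 * U ^ 4 * X ^ 3 * Y - 4 * S ^ 3 * T ^ 5 * U ^ 5 * W * X ^ 3 + 4 * S ^ 3 * T ^ 5 * W ^ 2 * X * Y ^ 3 - S ^ 3 * T ^ 5 * W ^ 5 * Y ^ 2 + 4 * S ^ 3 * T ^ 6 * U * W * X * Y ^ 3 - 4 * S ^ 3 * T ^ 6 * U * W ^ 4 * Y ^ 2 + S ^ 3 * T ^ 6 * U ^ 2 * W ^ 2 * X * Y ^ 2 + 3 * S ^ 3 * T ^ 6 * U ^ 2 * W ^ 5 * Y - 2 * S ^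 3 * T ^ 6 * U ^ 3 * W ^ 3 * X * Y - 2 * S ^ 3 * T ^ 6 * U ^ 3 * X ^ 2 * Y ^ 2 + 6 * S ^ 3 * T ^ 6 * U ^ 4 * W ^ 4 * X - 6 * S ^ 3 * T ^ 6 * U ^ 5 * W ^ 2 * X ^ 2 - S ^ 3 * T ^ 6 * U ^ 6 * X ^ 3 + 3 * S ^ 3 * T ^ 6 * W ^ 3 * Y ^ 3 - 3 * S ^ 3 * T ^ 6 * X * Y ^ 4 + 2 * S ^ 3 * T ^ 7 * U * W ^ 2 * Y ^ 3 - S ^ 3 * T ^ 7 * U ^ 2 * W ^ 3 * Y ^ 2 + S ^ 3 * T ^ 7 * U ^ 2 * X * Y ^ 3 + 3 * S ^ 3 * T ^ 7 * U ^ 3 * W * X * Y ^ 2 + 8 * S ^ 3 * T ^ 7 * U ^ 3 * W ^ 4 * Y + 10 * S ^ 3 * T ^ 7 * U ^ 4 * W ^ 2 * X * Y - 8 * S ^ 3 * T ^ 7 * U ^ 4 * W ^ 5 - 2 * S ^ 3 * T ^ 7 * U ^ 5 * W ^ 3 * X + 7 * S ^ 3 * T ^ 7 * U ^ 5 * X ^ 2 * Y - 4 * S ^ 3 * T ^ 7 * U ^ 6 * W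 * X ^ 2 - S ^ 3 * T ^ 7 * W * Y ^ 4 - 2 * S ^ 3 * T ^ 8 * U * Y ^ 4 + 2 * S ^ 3 * T ^ 8 * U ^ 2 * W * Y ^ 3 - 6 * S ^ 3 * T ^ 8 * U ^ 3 * W ^ 2 * Y ^ 2 + 12 * S ^ 3 * T ^ 8 * U ^ 4 * W ^ 3 * Y - 8 * S ^ 3 * T ^ 8 * U ^ 4 * X * Y ^ 2 + 10 * S ^ 3 * T ^ 8 * U ^ 5 * W * X * Y - 8 * S ^ 3 * T ^ 8 * U ^ 5 * W ^ 4 + S ^ 3 * T ^ 8 * U ^ 6 * W ^ 2 * X - S ^ 3 * T ^ 8 * U ^ 7 * X ^ 2 + 3 * S ^ 3 * T ^ 9 * U ^ 3 * Y ^ 3 - 10 * S ^ 3 * T ^ 9 * U ^ 4 * W * Y ^ 2 + 4 * S ^ 3 * T ^ 9 * U ^ 5 * W ^ 2 * Y - 4 * S ^ 3 * T ^ 9 * U ^ 6 * X * Y + 4 * S ^ 3 * T ^ 9 * U ^ 7 * W * X + 2 * S ^ 3 * T ^ 10 * U ^ 6 * W * Y - 5 * S ^ 3 * T ^ 10 * U ^ 7 * W ^ 2 - S ^ 3 * T ^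 10 * U ^ 8 * X + 4 * S ^ 3 * T ^ 11 * U ^ 7 * Y - 5 * S ^ 3 * T ^ 11 * U ^ 8 * W - 2 * S ^ 4 * T ^ 3 * U * W * X ^ 4 * Y + 4 * S ^ 4 * T ^ 3 * U * W ^ 4 * X ^ 3 + 2 * S ^ 4 * T ^ 3 * U ^ 2 * W ^ 2 * X ^ 4 - 6 * S ^ 4 * T ^ 4 * U * W ^ 2 * X ^ 3 * Y + 4 * S ^ 4 * T ^ 4 * U * W ^ 5 * X ^ 2 + 6 * S ^ 4 * T ^ 4 * U ^ 2 * W ^ 3 * X ^ 3 - 4 * S ^ 4 * T ^ 4 * U ^ 2 * X ^ 4 * Y + 4 * S ^ 4 * T ^ 4 * U ^ 3 * W * X ^ 4 + S ^ 4 * T ^ 4 * W * X ^ 3 * Y ^ 2 - 6 * S ^ 4 * T ^ 4 * W ^ 4 * X ^ 2 * Y + 5 * S ^ 4 * T ^ 4 * W ^ 7 * X - 16 * S ^ 4 * T ^ 5 * U * W ^ 3 * X ^ 2 * Y + 9 * S ^ 4 * T ^ 5 * U * W ^ 6 * X + 7 * S ^ 4 * T ^ 5 * U * X ^ 3 * Y ^ 2 - 6 * S ^ 4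 * T ^ 5 * U ^ 2 * W * X ^ 3 * Y + 4 * S ^ 4 * T ^ 5 * U ^ 2 * W ^ 4 * X ^ 2 + 2 * S ^ 4 * T ^ 5 * U ^ 4 * X ^ 4 + 7 * S ^ 4 * T ^ 5 * W ^ 2 * X ^ 2 * Y ^ 2 - 6 * S ^ 4 * T ^ 5 * W ^ 5 * X * Y - S ^ 4 * T ^ 5 * W ^ 8 + 5 * S ^ 4 * T ^ 6 * U * W * X ^ 2 * Y ^ 2 - 9 * S ^ 4 * T ^ 6 * U * W ^ 4 * X * Y - 2 * S ^ 4 * T ^ 6 * U * W ^ 7 - 2 * S ^ 4 * T ^ 6 * U ^ 2 * W ^ 2 * X ^ 2 * Y + 6 * S ^ 4 * T ^ 6 * U ^ 2 * W ^ 5 * X - 2 * S ^ 4 * T ^ 6 * U ^ 3 * W ^ 3 * X ^ 2 + S ^ 4 * T ^ 6 * U ^ 3 * X ^ 3 * Y - 2 * S ^ 4 * T ^ 6 * U ^ 4 * W * X ^ 3 + 6 * S ^ 4 * T ^ 6 * W ^ 3 * X * Y ^ 2 + S ^ 4 * T ^ 6 * W ^ 6 * Y - 4 * S ^ 4 * T ^ 6 * X ^ 2 * Y ^ 3 + S ^ 4 *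 T ^ 7 * U * W ^ 5 * Y - 4 * S ^ 4 * T ^ 7 * U ^ 2 * W ^ 3 * X * Y + 3 * S ^ 4 * T ^ 7 * U ^ 2 * W ^ 6 - 5 * S ^ 4 * T ^ 7 * U ^ 2 * X ^ 2 * Y ^ 2 + 3 * S ^ 4 * T ^ 7 * U ^ 3 * W * X ^ 2 * Y + 8 * S ^ 4 * T ^ 7 * U ^ 3 * W ^ 4 * X - 2 * S ^ 4 * T ^ 7 * U ^ 5 * X ^ 3 - 2 * S ^ 4 * T ^ 7 * W * X * Y ^ 3 - 4 * S ^ 4 * T ^ 7 * W ^ 4 * Y ^ 2 - 6 * S ^ 4 * T ^ 8 * U * W ^ 3 * Y ^ 2 + 2 * S ^ 4 * T ^ 8 * U * X * Y ^ 3 + S ^ 4 * T ^ 8 * U ^ 2 * W ^ 4 * Y - 11 * S ^ 4 * T ^ 8 * U ^ 3 * W ^ 2 * X * Y + 2 * S ^ 4 * T ^ 8 * U ^ 3 * W ^ 5 + 11 * S ^ 4 * T ^ 8 * U ^ 4 * W ^ 3 * X - 2 * S ^ 4 * T ^ 8 * U ^ 4 * X ^ 2 * Y + 3 * S ^ 4 * T ^ 8 * W ^ 2 * Y ^ 3 + 4 *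 S ^ 4 * T ^ 9 * U * W * Y ^ 3 - 2 * S ^ 4 * T ^ 9 * U ^ 2 * W ^ 2 * Y ^ 2 + 2 * S ^ 4 * T ^ 9 * U ^ 3 * W ^ 3 * Y + 8 * S ^ 4 * T ^ 9 * U ^ 3 * X * Y ^ 2 - 12 * S ^ 4 * T ^ 9 * U ^ 4 * W * X * Y - 5 * S ^ 4 * T ^ 9 * U ^ 4 * W ^ 4 + 4 * S ^ 4 * T ^ 9 * U ^ 5 * W ^ 2 * X - 2 * S ^ 4 * T ^ 9 * U ^ 6 * X ^ 2 + S ^ 4 * T ^ 10 * U ^ 2 * Y ^ 3 - 2 * S ^ 4 * T ^ 10 * U ^ 3 * W * Y ^ 2 + 6 * S ^ 4 * T ^ 10 * U ^ 4 * W ^ 2 * Y - S ^ 4 * T ^ 10 * U ^ 5 * W ^ 3 + 6 * S ^ 4 * T ^ 10 * U ^ 5 * X * Y + 2 * S ^ 4 * T ^ 10 * U ^ 6 * W * X - 6 * S ^ 4 * T ^ 11 * U ^ 4 * Y ^ 2 + 6 * S ^ 4 * T ^ 11 * U ^ 5 * W * Y + 2 * S ^ 4 * T ^ 11 * U ^ 6 * W ^ 2 + 3 * S ^ 4 *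 T ^ 11 * U ^ 7 * X - 2 * S ^ 4 * T ^ 12 * U ^ 7 * W - 2 * S ^ 4 * T ^ 13 * U ^ 8 - 2 * S ^ 5 * T ^ 6 * U * W * X ^ 3 * Y - S ^ 5 * T ^ 6 * U * W ^ 4 * X ^ 2 + 4 * S ^ 5 * T ^ 6 * U ^ 2 * W ^ 2 * X ^ 3 + S ^ 5 * T ^ 6 * U ^ 3 * X ^ 4 + 2 * S ^ 5 * T ^ 6 * W ^ 3 * X ^ 2 * Y + S ^ 5 * T ^ 6 * W ^ 6 * X + S ^ 5 * T ^ 7 * U * W ^ 5 * X + 4 * S ^ 5 * T ^ 7 * U ^ 2 * W ^ 3 * X ^ 2 - 7 * S ^ 5 * T ^ 7 * U ^ 2 * X ^ 3 * Y + 5 * S ^ 5 * T ^ 7 * U ^ 3 * W * X ^ 3 - 3 * S ^ 5 * T ^ 7 * W * X ^ 2 * Y ^ 2 - S ^ 5 * T ^ 7 * W ^ 4 * X * Y - 2 * S ^ 5 * T ^ 7 * W ^ 7 - 6 * S ^ 5 * T ^ 8 * U * W ^ 3 * X * Y - S ^ 5 * T ^ 8 * U * W ^ 6 + 3 * S ^ 5 * T ^ 8 * U * X ^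 2 * Y ^ 2 + S ^ 5 * T ^ 8 * U ^ 2 * W ^ 4 * X + S ^ 5 * T ^ 8 * U ^ 3 * W ^ 2 * X ^ 2 + 3 * S ^ 5 * T ^ 8 * U ^ 4 * X ^ 3 + 5 * S ^ 5 * T ^ 8 * W ^ 2 * X * Y ^ 2 + 2 * S ^ 5 * T ^ 8 * W ^ 5 * Y + 12 * S ^ 5 * T ^ 9 * U * W * X * Y ^ 2 + S ^ 5 * T ^ 9 * U * W ^ 4 * Y - 5 * S ^ 5 * T ^ 9 * U ^ 2 * W ^ 2 * X * Y + 6 * S ^ 5 * T ^ 9 * U ^ 2 * W ^ 5 + 2 * S ^ 5 * T ^ 9 * U ^ 3 * W ^ 3 * X + 2 * S ^ 5 * T ^ 9 * U ^ 3 * X ^ 2 * Y - S ^ 5 * T ^ 9 * U ^ 4 * W * X ^ 2 - 2 * S ^ 5 * T ^ 9 * W ^ 3 * Y ^ 2 - 2 * S ^ 5 * T ^ 9 * X * Y ^ 3 - 3 * S ^ 5 * T ^ 10 * U * W ^ 2 * Y ^ 2 - S ^ 5 * T ^ 10 * U ^ 2 * W ^ 3 * Y - 6 * S ^ 5 * T ^ 10 * U ^ 3 * W * X * Y + S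 ^ 5 * T ^ 10 * U ^ 3 * W ^ 4 + 6 * S ^ 5 * T ^ 10 * U ^ 4 * W ^ 2 * X + 3 * S ^ 5 * T ^ 10 * U ^ 5 * X ^ 2 - 2 * S ^ 5 * T ^ 10 * W * Y ^ 3 - 3 * S ^ 5 * T ^ 11 * U ^ 2 * W * Y ^ 2 - 3 * S ^ 5 * T ^ 11 * U ^ 3 * W ^ 2 * Y + S ^ 5 * T ^ 11 * U ^ 4 * W ^ 3 - 12 * S ^ 5 * T ^ 11 * U ^ 4 * X * Y + 6 * S ^ 5 * T ^ 11 * U ^ 5 * W * X + 2 * S ^ 5 * T ^ 12 * U ^ 3 * Y ^ 2 - 4 * S ^ 5 * T ^ 12 * U ^ 4 * W * Y + 6 * S ^ 5 * T ^ 12 * U ^ 5 * W ^ 2 + S ^ 5 * T ^ 12 * U ^ 6 * X + 2 * S ^ 5 * T ^ 13 * U ^ 5 * Y + S ^ 5 * T ^ 13 * U ^ 6 * W - S ^ 6 * T ^ 6 * U * W * X ^ 4 + S ^ 6 * T ^ 6 * W ^ 3 * X ^ 3 - 3 * S ^ 6 * T ^ 7 * U * W ^ 2 * X ^ 3 - 2 * S ^ 6 * T ^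 7 * U ^ 2 * X ^ 4 - S ^ 6 * T ^ 7 * W * X ^ 3 * Y - 4 * S ^ 6 * T ^ 7 * W ^ 4 * X ^ 2 - 9 * S ^ 6 * T ^ 8 * U * W ^ 3 * X ^ 2 + 5 * S ^ 6 * T ^ 8 * U * X ^ 3 * Y - 3 * S ^ 6 * T ^ 8 * U ^ 2 * W * X ^ 3 + 11 * S ^ 6 * T ^ 8 * W ^ 2 * X ^ 2 * Y - 4 * S ^ 6 * T ^ 8 * W ^ 5 * X + 18 * S ^ 6 * T ^ 9 * U * W * X ^ 2 * Y - 10 * S ^ 6 * T ^ 9 * U * W ^ 4 * X - 4 * S ^ 6 * T ^ 9 * U ^ 2 * W ^ 2 * X ^ 2 + 3 * S ^ 6 * T ^ 9 * U ^ 3 * X ^ 3 + 2 * S ^ 6 * T ^ 9 * W ^ 3 * X * Y - 6 * S ^ 6 * T ^ 9 * X ^ 2 * Y ^ 2 - 2 * S ^ 6 * T ^ 10 * U * W ^ 2 * X * Y + 3 * S ^ 6 * T ^ 10 * U * W ^ 5 - 8 * S ^ 6 * T ^ 10 * U ^ 2 * W ^ 3 * X + 3 * S ^ 6 * T ^ 10 * U ^ 2 * X ^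 2 * Y - 6 * S ^ 6 * T ^ 10 * U ^ 3 * W * X ^ 2 - 2 * S ^ 6 * T ^ 10 * W * X * Y ^ 2 - 2 * S ^ 6 * T ^ 11 * U ^ 2 * W * X * Y + 3 * S ^ 6 * T ^ 11 * U ^ 2 * W ^ 4 - 6 * S ^ 6 * T ^ 11 * U ^ 3 * W ^ 2 * X - 5 * S ^ 6 * T ^ 11 * U ^ 4 * X ^ 2 + 3 * S ^ 6 * T ^ 11 * W ^ 2 * Y ^ 2 + 6 * S ^ 6 * T ^ 12 * U * W * Y ^ 2 - 4 * S ^ 6 * T ^ 12 * U ^ 2 * W ^ 2 * Y + 5 * S ^ 6 * T ^ 12 * U ^ 3 * X * Y - 4 * S ^ 6 * T ^ 12 * U ^ 4 * W * X - S ^ 6 * T ^ 13 * U ^ 2 * Y ^ 2 - 3 * S ^ 6 * T ^ 13 * U ^ 3 * W * Y + 6 * S ^ 6 * T ^ 13 * U ^ 4 * W ^ 2 + 2 * S ^ 6 * T ^ 13 * U ^ 5 * X - 4 * S ^ 6 * T ^ 14 * U ^ 4 * Y + 6 * S ^ 6 * T ^ 14 * U ^ 5 * W - S ^ 7 * T ^ 9 * W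 ^ 3 * X ^ 2 + S ^ 7 * T ^ 10 * U * W ^ 2 * X ^ 2 - 3 * S ^ 7 * T ^ 10 * U ^ 2 * X ^ 3 - S ^ 7 * T ^ 10 * W * X ^ 2 * Y + S ^ 7 * T ^ 10 * W ^ 4 * X - S ^ 7 * T ^ 11 * U * W ^ 3 * X + 3 * S ^ 7 * T ^ 11 * U * X ^ 2 * Y + S ^ 7 * T ^ 11 * U ^ 2 * W * X ^ 2 - 2 * S ^ 7 * T ^ 11 * W ^ 2 * X * Y + 3 * S ^ 7 * T ^ 11 * W ^ 5 + 6 * S ^ 7 * T ^ 12 * U * W ^ 4 - 7 * S ^ 7 * T ^ 12 * U ^ 2 * W ^ 2 * X - 2 * S ^ 7 * T ^ 12 * U ^ 3 * X ^ 2 - 5 * S ^ 7 * T ^ 12 * W ^ 3 * Y + 2 * S ^ 7 * T ^ 12 * X * Y ^ 2 - 4 * S ^ 7 * T ^ 13 * U * W ^ 2 * Y - 2 * S ^ 7 * T ^ 13 * U ^ 2 * W ^ 3 + S ^ 7 * T ^ 13 * U ^ 2 * X * Y - 7 * S ^ 7 * T ^ 13 * U ^ 3 * W * X + 2 * S ^ 7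 * T ^ 13 * W * Y ^ 2 + 4 * S ^ 7 * T ^ 14 * U * Y ^ 2 - 4 * S ^ 7 * T ^ 14 * U ^ 2 * W * Y - 4 * S ^ 7 * T ^ 14 * U ^ 4 * X - S ^ 7 * T ^ 15 * U ^ 3 * Y + 6 * S ^ 7 * T ^ 15 * U ^ 4 * W + 2 * S ^ 7 * T ^ 16 * U ^ 5 - S ^ 8 * T ^ 10 * W * X ^ 3 + S ^ 8 * T ^ 11 * U * X ^ 3 + 5 * S ^ 8 * T ^ 11 * W ^ 2 * X ^ 2 + 10 * S ^ 8 * T ^ 12 * U * W * X ^ 2 - S ^ 8 * T ^ 12 * W ^ 3 * X - 4 * S ^ 8 * T ^ 12 * X ^ 2 * Y - S ^ 8 * T ^ 13 * U * W ^ 2 * X + 4 * S ^ 8 * T ^ 13 * U ^ 2 * X ^ 2 + S ^ 8 * T ^ 13 * W * X * Y + 3 * S ^ 8 * T ^ 13 * W ^ 4 + 4 * S ^ 8 * T ^ 14 * U * W ^ 3 - 2 * S ^ 8 * T ^ 14 * U * X * Y - S ^ 8 * T ^ 14 * U ^ 2 * W * X - 2 * S ^ 8 * T ^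 14 * W ^ 2 * Y - 3 * S ^ 8 * T ^ 15 * U * W * Y - 3 * S ^ 8 * T ^ 15 * U ^ 2 * W ^ 2 - 3 * S ^ 8 * T ^ 15 * U ^ 3 * X - S ^ 8 * T ^ 16 * U ^ 2 * Y + 2 * S ^ 8 * T ^ 17 * U ^ 4 + S ^ 9 * T ^ 13 * W * X ^ 2 + 2 * S ^ 9 * T ^ 14 * U * X ^ 2 - 3 * S ^ 9 * T ^ 14 * W ^ 2 * X - 5 * S ^ 9 * T ^ 15 * U * W * X + 3 * S ^ 9 * T ^ 15 * X * Y - S ^ 9 * T ^ 16 * U * W ^ 2 + S ^ 9 * T ^ 16 * U ^ 2 * X + S ^ 9 * T ^ 16 * W * Y - S ^ 9 * T ^ 17 * U ^ 2 * W - S ^ 10 * T ^ 15 * X ^ 2 + S ^ 10 * T ^ 16 * W * X - S ^ 10 * T ^ 17 * U * X - 2 * S ^ 10 * T ^ 17 * W ^ 2 - 4 * S ^ 10 * T ^ 18 * U * W + S ^ 11 * T ^ 18 * X - S ^ 11 * T ^ 19 * W - 2 * S ^ 11 * T ^ 20 * U +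 T * U * W ^ 2 * X * Y ^ 4 - T * U * W ^ 5 * Y ^ 3 - 2 * T * U ^ 2 * W ^ 3 * X * Y ^ 3 + T * U ^ 2 * X ^ 2 * Y ^ 4 + T * U ^ 3 * W * X ^ 2 * Y ^ 3 + 2 * T * U ^ 3 * W ^ 4 * X * Y ^ 2 - T * U ^ 3 * W ^ 7 * Y + 2 * T * U ^ 4 * W ^ 2 * X ^ 2 * Y ^ 2 - 4 * T * U ^ 4 * W ^ 5 * X * Y + T * U ^ 4 * W ^ 8 - 5 * T * U ^ 5 * W ^ 3 * X ^ 2 * Y + 2 * T * U ^ 5 * W ^ 6 * X + 2 * T * U ^ 5 * X ^ 3 * Y ^ 2 - T * U ^ 6 * W * X ^ 3 * Y + T * U ^ 6 * W ^ 4 * X ^ 2 - T * U ^ 7 * W ^ 2 * X ^ 3 + T * W * X * Y ^ 5 + T * W ^ 4 * Y ^ 4 + 2 * T ^ 2 * U * W ^ 3 * Y ^ 4 + T ^ 2 * U ^ 2 * W * X * Y ^ 4 - T ^ 2 * U ^ 2 * W ^ 4 * Y ^ 3 - 3 * T ^ 2 * U ^ 3 * W ^ 2 * X * Y ^ 3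 + T ^ 2 * U ^ 3 * W ^ 5 * Y ^ 2 + 5 * T ^ 2 * U ^ 4 * W ^ 3 * X * Y ^ 2 - 2 * T ^ 2 * U ^ 4 * W ^ 6 * Y + 2 * T ^ 2 * U ^ 5 * W * X ^ 2 * Y ^ 2 - 4 * T ^ 2 * U ^ 5 * W ^ 4 * X * Y + T ^ 2 * U ^ 5 * W ^ 7 - 2 * T ^ 2 * U ^ 6 * W ^ 2 * X ^ 2 * Y + T ^ 2 * U ^ 6 * W ^ 5 * X + T ^ 2 * U ^ 7 * X ^ 3 * Y - T ^ 2 * U ^ 8 * W * X ^ 3 - T ^ 2 * W ^ 2 * Y ^ 5 - T ^ 3 * U * W * Y ^ 5 + T ^ 3 * U ^ 2 * W ^ 2 * Y ^ 4 - T ^ 3 * U ^ 3 * X * Y ^ 4 - T ^ 3 * U ^ 4 * W ^ 4 * Y ^ 2 + T ^ 3 * U ^ 5 * W ^ 5 * Y - T ^ 3 * U ^ 6 * X ^ 2 * Y ^ 2 + T ^ 3 * U ^ 7 * W ^ 4 * X + T ^ 3 * U ^ 8 * W ^ 2 * X ^ 2 - T ^ 4 * U ^ 6 * W ^ 4 * Y - 2 * T ^ 4 * U ^ 7 * W ^ 2 * X * Y +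 T ^ 4 * U ^ 7 * W ^ 5 + 2 * T ^ 4 * U ^ 8 * W ^ 3 * X - T ^ 4 * U ^ 8 * X ^ 2 * Y + T ^ 4 * U ^ 9 * W * X ^ 2 + T ^ 5 * U ^ 6 * W ^ 2 * Y ^ 2 - 2 * T ^ 5 * U ^ 7 * W ^ 3 * Y + T ^ 5 * U ^ 7 * X * Y ^ 2 - 2 * T ^ 5 * U ^ 8 * W * X * Y + T ^ 5 * U ^ 8 * W ^ 4 + T ^ 5 * U ^ 9 * W ^ 2 * X - U * W * X ^ 2 * Y ^ 4 + U * W ^ 4 * X * Y ^ 3 - U * W ^ 7 * Y ^ 2 - 2 * U ^ 2 * W ^ 5 * X * Y ^ 2 + U ^ 2 * W ^ 8 * Y - U ^ 3 * W ^ 3 * X ^ 2 * Y ^ 2 - U ^ 3 * X ^ 3 * Y ^ 3 - 2 * U ^ 4 * W ^ 4 * X ^ 2 * Y + U ^ 4 * W ^ 7 * X - 2 * U ^ 5 * W ^ 2 * X ^ 3 * Y + U ^ 5 * W ^ 5 * X ^ 2 - U ^ 6 * X ^ 4 * Y - W ^ 3 * X * Y ^ 4) * h3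

end Cfsg.Agent.Ree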