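import Mathlib

set_option autoImplicit false
set_option maxHeartbeats 1000000
set_option linter.unusedVariables false

/-!
The 7-dimensional matrices of the Ree groups: the unipotent matrices `M7` and their product.
-/

namespace Cfsg.Agent.Ree

variable {K : Type*} [Field K]

/-- the unipotent matrix with parameters `T, S = φ T, U, X = φ U, W, Y = φ W` -/
def M7 (T S U X W Y : K) : Matrix (Fin 7) (Fin 7) K :=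
  !![1, T, -U, -W + T * U, -X - T * W - S * T ^ 3, -Y - U * W - T * U ^ 2 - S ^ 2 * T ^ 3, T * Y - U * X - W ^ 2 - T * U * W - S * T ^ 3 * U + S ^ 2 * T ^ 4;
     0, 1, S, U + S * T, -W - S * T ^ 2, S * W - U ^ 2 + S * T * U, Y + S * X - U * W - S * T * W - S * T ^ 2 * U - S ^ 2 * T ^ 3;
     0, 0, 1, T, -(T ^ 2), W + T * U, X - T * W - T ^ 2 * U + S * T ^ 3;
     0, 0, 0, 1, T, U, -W + T * U;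
     0, 0, 0, 0, 1, -S, U + S * T;
     0, 0, 0, 0, 0, 1, -T;
     0, 0, 0, 0, 0, 0, 1]

private lemma m7_00 (h3 : (3 : K) = 0) (T1 S1 U1 X1 W1 Y1 T2 S2 U2 X2 W2 Y2 : K) : (1) * (1) + (T1) * (0) + (-U1) * (0) + (-W1 + T1 * U1) * (0) + (-X1 - T1 * W1 - S1 * T1 ^ 3) * (0) + (-Y1 - U1 * W1 - T1 * U1 ^ 2 - S1 ^ 2 * T1 ^ 3) * (0) + (T1 * Y1 - U1 * X1 - W1 ^ 2 - T1 * U1 * W1 - S1 * T1 ^ 3 * U1 + S1 ^ 2 * T1 ^ 4) * (0) = 1 := by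
  ring

private lemma m7_01 (h3 : (3 : K) = 0) (T1 S1 U1 X1 W1 Y1 T2 S2 U2 X2 W2 Y2 : K) : (1) * (T2) + (T1) * (1) + (-U1) * (0) + (-W1 + T1 * U1) * (0) + (-X1 - T1 * W1 - S1 * T1 ^ 3) * (0) + (-Y1 - U1 * W1 - T1 * U1 ^ 2 - S1 ^ 2 * T1 ^ 3) * (0) + (T1 * Y1 - U1 * X1 - W1 ^ 2 - T1 * U1 * W1 - S1 * T1 ^ 3 * U1 + S1 ^ 2 * T1 ^ 4) * (0) = (T1 + T2) := by
  ring

private lemma m7_02 (h3 : (3 : K) = 0) (T1 S1 U1 X1 W1 Y1 T2 S2 U2 X2 W2 Y2 : K) : (1) * (-U2) + (T1) * (S2) + (-U1) * (1) + (-W1 + T1 * U1) * (0) + (-X1 - T1 * W1 - S1 * T1 ^ 3) * (0) + (-Y1 - U1 * W1 - T1 * U1 ^ 2 - S1 ^ 2 * T1 ^ 3) * (0) + (T1 * Y1 - U1 * X1 - W1 ^ 2 - T1 * U1 * W1 - S1 * T1 ^ 3 * U1 + S1 ^ 2 * T1 ^ 4) * (0) = -(U1 + U2 - T1 * S2) := by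
  ring

private lemma m7_03 (h3 : (3 : K) = 0) (T1 S1 U1 X1 W1 Y1 T2 S2 U2 X2 W2 Y2 : K) : (1) * (-W2 + T2 * U2) + (T1) * (U2 + S2 * T2) + (-U1) * (T2) + (-W1 + T1 * U1) * (1) + (-X1 - T1 * W1 - S1 * T1 ^ 3) * (0) + (-Y1 - U1 * W1 - T1 * U1 ^ 2 - S1 ^ 2 * T1 ^ 3) * (0) + (T1 * Y1 - U1 * X1 - W1 ^ 2 - T1 * U1 * W1 - S1 * T1 ^ 3 * U1 + S1 ^ 2 * T1 ^ 4) * (0) = -(W1 + W2 - T2 * U1 + S2 * T1 * T2 - S2 * T1 ^ 2) + (T1 + T2) * (U1 + U2 - T1 * S2) := by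
  linear_combination (S2 * T1 * T2 - T2 * U1) * h3

private lemma m7_04 (h3 : (3 : K) = 0) (T1 S1 U1 X1 W1 Y1 T2 S2 U2 X2 W2 Y2 : K) : (1) * (-X2 - T2 * W2 - S2 * T2 ^ 3) + (T1) * (-W2 - S2 * T2 ^ 2) + (-U1) * (-(T2 ^ 2)) + (-W1 + T1 * U1) * (T2) + (-X1 - T1 * W1 - S1 * T1 ^ 3) * (1) + (-Y1 - U1 * W1 - T1 * U1 ^ 2 - S1 ^ 2 * T1 ^ 3) * (0) + (T1 * Y1 - U1 * X1 - W1 ^ 2 - T1 * U1 * W1 - S1 * T1 ^ 3 * U1 + S1 ^ 2 * T1 ^ 4) * (0) = -(X1 + X2 - S1 * T2 ^ 3) - (T1 + T2) * (W1 + W2 - T2 * U1 + S2 * T1 * T2 - S2 * T1 ^ 2) - (S1 + S2) * (T1 + T2) ^ 3 := by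
  linear_combination (S1 * T1 * T2 ^ 2 + S1 * T1 ^ 2 * T2 + S2 * T1 * T2 ^ 2 + S2 * T1 ^ 2 * T2) * h3

private lemma m7_05 (h3 : (3 : K) = 0) (T1 S1 U1 X1 W1 Y1 T2 S2 U2 X2 W2 Y2 : K) : (1) * (-Y2 - U2 * W2 - T2 * U2 ^ 2 - S2 ^ 2 * T2 ^ 3) + (T1) * (S2 * W2 - U2 ^ 2 + S2 * T2 * U2) + (-U1) * (W2 + T2 * U2) + (-W1 + T1 * U1) * (U2) + (-X1 - T1 * W1 - S1 * T1 ^ 3) * (-S2) + (-Y1 - U1 * W1 - T1 * U1 ^ 2 - S1 ^ 2 * T1 ^ 3) * (1) + (T1 * Y1 - U1 * X1 - W1 ^ 2 - T1 * U1 * W1 - S1 * T1 ^ 3 * U1 + S1 ^ 2 * T1 ^ 4) * (0) = -(Y1 + Y2 - S2 * X1 + T2 ^ 3 * S1 * S2 - T2 ^ 3 * S1 ^ 2) - (U1 + U2 - T1 * S2) * (W1 + W2 - T2 * U1 + S2 * T1 * T2 - S2 * T1 ^ 2) - (T1 + T2) * (U1 + U2 - T1 * S2) ^ 2 - (S1 + S2) ^ 2 * (T1 + T2) ^ 3 := by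
  linear_combination (2 * S1 * S2 * T1 * T2 ^ 2 + 2 * S1 * S2 * T1 ^ 2 * T2 + S1 * S2 * T1 ^ 3 + S1 * S2 * T2 ^ 3 + S1 ^ 2 * T1 * T2 ^ 2 + S1 ^ 2 * T1 ^ 2 * T2 - S2 * T1 ^ 2 * U1 - S2 * T1 ^ 2 * U2 + S2 ^ 2 * T1 * T2 ^ 2 + S2 ^ 2 * T1 ^ 2 * T2 + S2 ^ 2 * T1 ^ 3 + T1 * U1 * U2) * h3

private lemma m7_06 (h3 : (3 : K) = 0) (T1 S1 U1 X1 W1 Y1 T2 S2 U2 X2 W2 Y2 : K) : (1) * (T2 * Y2 - U2 * X2 - W2 ^ 2 - T2 * U2 * W2 - S2 * T2 ^ 3 * U2 + S2 ^ 2 * T2 ^ 4) + (T1) * (Y2 + S2 * X2 - U2 * W2 - S2 * T2 * W2 - S2 * T2 ^ 2 * U2 - S2 ^ 2 * T2 ^ 3) + (-U1) * (X2 - T2 * W2 - T2 ^ 2 * U2 + S2 * T2 ^ 3) + (-W1 + T1 * U1) * (-W2 + T2 * U2) + (-X1 - T1 * W1 - S1 * T1 ^ 3) * (U2 + S2 * T2) + (-Y1 - U1 * W1 - T1 * U1 ^ 2 - S1 ^ 2 * T1 ^ 3)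 * (-T2) + (T1 * Y1 - U1 * X1 - W1 ^ 2 - T1 * U1 * W1 - S1 * T1 ^ 3 * U1 + S1 ^ 2 * T1 ^ 4) * (1) = (T1 + T2) * (Y1 + Y2 - S2 * X1 + T2 ^ 3 * S1 * S2 - T2 ^ 3 * S1 ^ 2) - (U1 + U2 - T1 * S2) * (X1 + X2 - S1 * T2 ^ 3) - (W1 + W2 - T2 * U1 + S2 * T1 * T2 - S2 * T1 ^ 2) ^ 2 - (T1 + T2) * (U1 + U2 - T1 * S2) * (W1 + W2 - T2 * U1 + S2 * T1 * T2 - S2 * T1 ^ 2) - (S1 + S2) * (T1 + T2) ^ 3 * (U1 + U2 - T1 * S2) + (S1 + S2) ^ 2 * (T1 + T2) ^ 4 := by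
  linear_combination (-(3 * S1 * S2 * T1 * T2 ^ 3) - 5 * S1 * S2 * T1 ^ 2 * T2 ^ 2 - 4 * S1 * S2 * T1 ^ 3 * T2 - S1 * S2 * T1 ^ 4 - S1 * S2 * T2 ^ 4 + S1 * T1 * T2 ^ 2 * U1 + S1 * T1 * T2 ^ 2 * U2 + S1 * T1 ^ 2 * T2 * U1 + S1 * T1 ^ 2 * T2 * U2 - S1 ^ 2 * T1 * T2 ^ 3 - 2 * S1 ^ 2 * T1 ^ 2 * T2 ^ 2 - S1 ^ 2 * T1 ^ 3 * T2 + S2 * T1 * T2 ^ 2 * U1 + S2 * T1 * T2 ^ 2 * U2 + 2 * S2 * T1 ^ 2 * T2 * U1 + S2 * T1 ^ 2 * T2 * U2 - S2 * T1 ^ 2 * W1 - S2 * T1 ^ 2 * W2 - 2 * S2 ^ 2 * T1 * T2 ^ 3 - 3 * S2 ^ 2 * T1 ^ 2 * T2 ^ 2 - 3 * S2 ^ 2 * T1 ^ 3 * T2 + W1 * W2) * h3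

private lemma m7_11 (h3 : (3 : K) = 0) (T1 S1 U1 X1 W1 Y1 T2 S2 U2 X2 W2 Y2 : K) : (0) * (T2) + (1) * (1) + (S1) * (0) + (U1 + S1 * T1) * (0) + (-W1 - S1 * T1 ^ 2) * (0) + (S1 * W1 - U1 ^ 2 + S1 * T1 * U1) * (0) + (Y1 + S1 * X1 - U1 * W1 - S1 * T1 * W1 - S1 * T1 ^ 2 * U1 - S1 ^ 2 * T1 ^ 3) * (0) = 1 := by
  ring

private lemma m7_12 (h3 : (3 : K) = 0) (T1 S1 U1 X1 W1 Y1 T2 S2 U2 X2 W2 Y2 : K) : (0) * (-U2) + (1) * (S2) + (S1) * (1) + (U1 + S1 * T1) * (0) + (-W1 - S1 * T1 ^ 2) * (0) + (S1 * W1 - U1 ^ 2 + S1 * T1 * U1) * (0) + (Y1 + S1 * X1 - U1 * W1 - S1 * T1 * W1 - S1 * T1 ^ 2 * U1 - S1 ^ 2 * T1 ^ 3) * (0) = (S1 + S2) := by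
  ring

private lemma m7_13 (h3 : (3 : K) = 0) (T1 S1 U1 X1 W1 Y1 T2 S2 U2 X2 W2 Y2 : K) : (0) * (-W2 + T2 * U2) + (1) * (U2 + S2 * T2) + (S1) * (T2) + (U1 + S1 * T1) * (1) + (-W1 - S1 * T1 ^ 2) * (0) + (S1 * W1 - U1 ^ 2 + S1 * T1 * U1) * (0) + (Y1 + S1 * X1 - U1 * W1 - S1 * T1 * W1 - S1 * T1 ^ 2 * U1 - S1 ^ 2 * T1 ^ 3) * (0) = (U1 + U2 - T1 * S2) + (S1 + S2) * (T1 + T2) := by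
  ring

private lemma m7_14 (h3 : (3 : K) = 0) (T1 S1 U1 X1 W1 Y1 T2 S2 U2 X2 W2 Y2 : K) : (0) * (-X2 - T2 * W2 - S2 * T2 ^ 3) + (1) * (-W2 - S2 * T2 ^ 2) + (S1) * (-(T2 ^ 2)) + (U1 + S1 * T1) * (T2) + (-W1 - S1 * T1 ^ 2) * (1) + (S1 * W1 - U1 ^ 2 + S1 * T1 * U1) * (0) + (Y1 + S1 * X1 - U1 * W1 - S1 * T1 * W1 - S1 * T1 ^ 2 * U1 - S1 ^ 2 * T1 ^ 3) * (0) = -(W1 + W2 - T2 * U1 + S2 * T1 * T2 - S2 * T1 ^ 2) - (S1 + S2) * (T1 + T2) ^ 2 := by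
  linear_combination (S1 * T1 * T2 + S2 * T1 * T2) * h3

private lemma m7_15 (h3 : (3 : K) = 0) (T1 S1 U1 X1 W1 Y1 T2 S2 U2 X2 W2 Y2 : K) : (0) * (-Y2 - U2 * W2 - T2 * U2 ^ 2 - S2 ^ 2 * T2 ^ 3) + (1) * (S2 * W2 - U2 ^ 2 + S2 * T2 * U2) + (S1) * (W2 + T2 * U2) + (U1 + S1 * T1) * (U2) + (-W1 - S1 * T1 ^ 2) * (-S2) + (S1 * W1 - U1 ^ 2 + S1 * T1 * U1) * (1) + (Y1 + S1 * X1 - U1 * W1 - S1 * T1 * W1 - S1 * T1 ^ 2 * U1 - S1 ^ 2 * T1 ^ 3) * (0) = (S1 + S2) * (W1 + W2 - T2 * U1 + S2 * T1 * T2 - S2 * T1 ^ 2) - (U1 + U2 - T1 * S2) ^ 2 + (S1 + S2) * (T1 + T2) * (U1 + U2 - T1 * S2) := by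
  linear_combination (S1 * S2 * T1 ^ 2 - S2 * T1 * U1 - S2 * T1 * U2 + S2 ^ 2 * T1 ^ 2 + U1 * U2) * h3

private lemma m7_16 (h3 : (3 : K) = 0) (T1 S1 U1 X1 W1 Y1 T2 S2 U2 X2 W2 Y2 : K) : (0) * (T2 * Y2 - U2 * X2 - W2 ^ 2 - T2 * U2 * W2 - S2 * T2 ^ 3 * U2 + S2 ^ 2 * T2 ^ 4) + (1) * (Y2 + S2 * X2 - U2 * W2 - S2 * T2 * W2 - S2 * T2 ^ 2 * U2 - S2 ^ 2 * T2 ^ 3) + (S1) * (X2 - T2 * W2 - T2 ^ 2 * U2 + S2 * T2 ^ 3) + (U1 + S1 * T1) * (-W2 + T2 * U2) + (-W1 - S1 * T1 ^ 2) * (U2 + S2 * T2) + (S1 * W1 - U1 ^ 2 + S1 * T1 * U1) * (-T2) + (Y1 + S1 * X1 - U1 * W1 - S1 * T1 * W1 - S1 * T1 ^ 2 * U1 - S1 ^ 2 * T1 ^ 3) * (1) = (Y1 + Y2 - S2 * X1 + T2 ^ 3 * S1 * S2 - T2 ^ 3 * S1 ^ 2) + (S1 + S2) * (X1 + X2 - S1 * T2 ^ 3) - (U1 + U2 - T1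 * S2) * (W1 + W2 - T2 * U1 + S2 * T1 * T2 - S2 * T1 ^ 2) - (S1 + S2) * (T1 + T2) * (W1 + W2 - T2 * U1 + S2 * T1 * T2 - S2 * T1 ^ 2) - (S1 + S2) * (T1 + T2) ^ 2 * (U1 + U2 - T1 * S2) - (S1 + S2) ^ 2 * (T1 + T2) ^ 3 := by
  linear_combination (2 * S1 * S2 * T1 * T2 ^ 2 + S1 * S2 * T1 ^ 2 * T2 + S1 * S2 * T2 ^ 3 + S1 * T1 * T2 * U2 + S1 ^ 2 * T1 * T2 ^ 2 + S1 ^ 2 * T1 ^ 2 * T2 + S1 ^ 2 * T2 ^ 3 + S2 * T1 * T2 * U1 + S2 * T1 * T2 * U2 + S2 ^ 2 * T1 * T2 ^ 2) * h3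

private lemma m7_22 (h3 : (3 : K) = 0) (T1 S1 U1 X1 W1 Y1 T2 S2 U2 X2 W2 Y2 : K) : (0) * (-U2) + (0) * (S2) + (1) * (1) + (T1) * (0) + (-(T1 ^ 2)) * (0) + (W1 + T1 * U1) * (0) + (X1 - T1 * W1 - T1 ^ 2 * U1 + S1 * T1 ^ 3) * (0) = 1 := by
  ring

private lemma m7_23 (h3 : (3 : K) = 0) (T1 S1 U1 X1 W1 Y1 T2 S2 U2 X2 W2 Y2 : K) : (0) * (-W2 + T2 * U2) + (0) * (U2 + S2 * T2) + (1) * (T2) + (T1) * (1) + (-(T1 ^ 2)) * (0) + (W1 + T1 * U1) * (0) + (X1 - T1 * W1 - T1 ^ 2 * U1 + S1 * T1 ^ 3) * (0) = (T1 + T2) := by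
  ring

private lemma m7_24 (h3 : (3 : K) = 0) (T1 S1 U1 X1 W1 Y1 T2 S2 U2 X2 W2 Y2 : K) : (0) * (-X2 - T2 * W2 - S2 * T2 ^ 3) + (0) * (-W2 - S2 * T2 ^ 2) + (1) * (-(T2 ^ 2)) + (T1) * (T2) + (-(T1 ^ 2)) * (1) + (W1 + T1 * U1) * (0) + (X1 - T1 * W1 - T1 ^ 2 * U1 + S1 * T1 ^ 3) * (0) = -((T1 + T2) ^ 2) := by
  linear_combination (T1 * T2) * h3

private lemma m7_25 (h3 : (3 : K) = 0) (T1 S1 U1 X1 W1 Y1 T2 S2 U2 X2 W2 Y2 : K) : (0) * (-Y2 - U2 * W2 - T2 * U2 ^ 2 - S2 ^ 2 * T2 ^ 3) + (0) * (S2 * W2 - U2 ^ 2 + S2 * T2 * U2) + (1) * (W2 + T2 * U2) + (T1) * (U2) + (-(T1 ^ 2)) * (-S2) + (W1 + T1 * U1) * (1) + (X1 - T1 * W1 - T1 ^ 2 * U1 + S1 * T1 ^ 3) * (0) = (W1 + W2 - T2 * U1 + S2 * T1 * T2 - S2 * T1 ^ 2) + (T1 + T2) * (U1 +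 U2 - T1 * S2) := by
  linear_combination (S2 * T1 ^ 2) * h3

private lemma m7_26 (h3 : (3 : K) = 0) (T1 S1 U1 X1 W1 Y1 T2 S2 U2 X2 W2 Y2 : K) : (0) * (T2 * Y2 - U2 * X2 - W2 ^ 2 - T2 * U2 * W2 - S2 * T2 ^ 3 * U2 + S2 ^ 2 * T2 ^ 4) + (0) * (Y2 + S2 * X2 - U2 * W2 - S2 * T2 * W2 - S2 * T2 ^ 2 * U2 - S2 ^ 2 * T2 ^ 3) + (1) * (X2 - T2 * W2 - T2 ^ 2 * U2 + S2 * T2 ^ 3) + (T1) * (-W2 + T2 * U2) + (-(T1 ^ 2)) * (U2 + S2 * T2) + (W1 + T1 * U1) * (-T2) + (X1 - T1 * W1 - T1 ^ 2 * U1 + S1 * T1 ^ 3) * (1) = (X1 + X2 - S1 * T2 ^ 3) - (T1 + T2) * (W1 + W2 - T2 * U1 + S2 * T1 * T2 - S2 * T1 ^ 2) - (T1 + T2) ^ 2 * (U1 + U2 - T1 * S2) + (S1 + S2) * (T1 + T2) ^ 3 := by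
  linear_combination (-(S1 * T1 * T2 ^ 2) - S1 * T1 ^ 2 * T2 - S2 * T1 * T2 ^ 2 - 2 * S2 * T1 ^ 2 * T2 - S2 * T1 ^ 3 + T1 * T2 * U2) * h3

private lemma m7_33 (h3 : (3 : K) = 0) (T1 S1 U1 X1 W1 Y1 T2 S2 U2 X2 W2 Y2 : K) : (0) * (-W2 + T2 * U2) + (0) * (U2 + S2 * T2) + (0) * (T2) + (1) * (1) + (T1) * (0) + (U1) * (0) + (-W1 + T1 * U1) * (0) = 1 := by
  ring

private lemma m7_34 (h3 : (3 : K) = 0) (T1 S1 U1 X1 W1 Y1 T2 S2 U2 X2 W2 Y2 : K) : (0) * (-X2 - T2 * W2 - S2 * T2 ^ 3) + (0) * (-W2 - S2 * T2 ^ 2) + (0) * (-(T2 ^ 2)) + (1) * (T2) + (T1) * (1) + (U1) * (0) + (-W1 + T1 * U1) * (0) = (T1 + T2) := by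
  ring

private lemma m7_35 (h3 : (3 : K) = 0) (T1 S1 U1 X1 W1 Y1 T2 S2 U2 X2 W2 Y2 : K) : (0) * (-Y2 - U2 * W2 - T2 * U2 ^ 2 - S2 ^ 2 * T2 ^ 3) + (0) * (S2 * W2 - U2 ^ 2 + S2 * T2 * U2) + (0) * (W2 + T2 * U2) + (1) * (U2) + (T1) * (-S2) + (U1) * (1) + (-W1 + T1 * U1) * (0) = (U1 + U2 - T1 * S2) := by
  ring

private lemma m7_36 (h3 : (3 : K) = 0) (T1 S1 U1 X1 W1 Y1 T2 S2 U2 X2 W2 Y2 : K) : (0) * (T2 * Y2 - U2 * X2 - W2 ^ 2 - T2 * U2 * W2 - S2 * T2 ^ 3 * U2 + S2 ^ 2 * T2 ^ 4) + (0) * (Y2 + S2 * X2 - U2 * W2 - S2 * T2 * W2 - S2 * T2 ^ 2 * U2 - S2 ^ 2 * T2 ^ 3) + (0) * (X2 - T2 * W2 - T2 ^ 2 * U2 + S2 * T2 ^ 3) + (1) * (-W2 + T2 * U2) + (T1) * (U2 + S2 * T2) + (U1) * (-T2) + (-W1 + T1 * U1) * (1) = -(W1 + W2 - T2 * U1 +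 S2 * T1 * T2 - S2 * T1 ^ 2) + (T1 + T2) * (U1 + U2 - T1 * S2) := by
  linear_combination (S2 * T1 * T2 - T2 * U1) * h3

private lemma m7_44 (h3 : (3 : K) = 0) (T1 S1 U1 X1 W1 Y1 T2 S2 U2 X2 W2 Y2 : K) : (0) * (-X2 - T2 * W2 - S2 * T2 ^ 3) + (0) * (-W2 - S2 * T2 ^ 2) + (0) * (-(T2 ^ 2)) + (0) * (T2) + (1) * (1) + (-S1) * (0) + (U1 + S1 * T1) * (0) = 1 := by
  ring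

private lemma m7_45 (h3 : (3 : K) = 0) (T1 S1 U1 X1 W1 Y1 T2 S2 U2 X2 W2 Y2 : K) : (0) * (-Y2 - U2 * W2 - T2 * U2 ^ 2 - S2 ^ 2 * T2 ^ 3) + (0) * (S2 * W2 - U2 ^ 2 + S2 * T2 * U2) + (0) * (W2 + T2 * U2) + (0) * (U2) + (1) * (-S2) + (-S1) * (1) + (U1 + S1 * T1) * (0) = -(S1 + S2) := by
  ring

private lemma m7_46 (h3 : (3 : K) = 0) (T1 S1 U1 X1 W1 Y1 T2 S2 U2 X2 W2 Y2 : K) : (0) * (T2 * Y2 - U2 * X2 - W2 ^ 2 - T2 * U2 * W2 - S2 * T2 ^ 3 * U2 + S2 ^ 2 * T2 ^ 4) + (0) * (Y2 + S2 * X2 - U2 * W2 - S2 * T2 * W2 - S2 * T2 ^ 2 * U2 - S2 ^ 2 * T2 ^ 3) + (0) * (X2 - T2 * W2 - T2 ^ 2 * U2 + S2 * T2 ^ 3) + (0) * (-W2 + T2 * U2) + (1) * (U2 + S2 * T2) + (-S1) * (-T2) + (U1 + S1 * T1) * (1) = (U1 + U2 - T1 * S2) + (S1 + S2) * (T1 +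 T2) := by
  ring

private lemma m7_55 (h3 : (3 : K) = 0) (T1 S1 U1 X1 W1 Y1 T2 S2 U2 X2 W2 Y2 : K) : (0) * (-Y2 - U2 * W2 - T2 * U2 ^ 2 - S2 ^ 2 * T2 ^ 3) + (0) * (S2 * W2 - U2 ^ 2 + S2 * T2 * U2) + (0) * (W2 + T2 * U2) + (0) * (U2) + (0) * (-S2) + (1) * (1) + (-T1) * (0) = 1 := by
  ring

private lemma m7_56 (h3 : (3 : K) = 0) (T1 S1 U1 X1 W1 Y1 T2 S2 U2 X2 W2 Y2 : K) : (0) * (T2 * Y2 - U2 * X2 - W2 ^ 2 - T2 * U2 * W2 - S2 * T2 ^ 3 * U2 + S2 ^ 2 * T2 ^ 4) + (0) * (Y2 + S2 * X2 - U2 * W2 - S2 * T2 * W2 - S2 * T2 ^ 2 * U2 - S2 ^ 2 * T2 ^ 3) + (0) * (X2 - T2 * W2 - T2 ^ 2 * U2 + S2 * T2 ^ 3) + (0) * (-W2 + T2 * U2) + (0) * (U2 + S2 * T2) + (1) * (-T2) + (-T1) * (1) = -(T1 + T2) := by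
  ring

private lemma m7_66 (h3 : (3 : K) = 0) (T1 S1 U1 X1 W1 Y1 T2 S2 U2 X2 W2 Y2 : K) : (0) * (T2 * Y2 - U2 * X2 - W2 ^ 2 - T2 * U2 * W2 - S2 * T2 ^ 3 * U2 + S2 ^ 2 * T2 ^ 4) + (0) * (Y2 + S2 * X2 - U2 * W2 - S2 * T2 * W2 - S2 * T2 ^ 2 * U2 - S2 ^ 2 * T2 ^ 3) + (0) * (X2 - T2 * W2 - T2 ^ 2 * U2 + S2 * T2 ^ 3) + (0) * (-W2 + T2 * U2) + (0) * (U2 + S2 * T2) + (0) * (-T2) + (1) * (1) = 1 := by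
  ring

theorem M7_mul (h3 : (3 : K) = 0) (T1 S1 U1 X1 W1 Y1 T2 S2 U2 X2 W2 Y2 : K) :
    M7 T1 S1 U1 X1 W1 Y1 * M7 T2 S2 U2 X2 W2 Y2 =
      M7 (T1 + T2) (S1 + S2) (U1 + U2 - T1 * S2) (X1 + X2 - S1 * T2 ^ 3) (W1 + W2 - T2 * U1 + S2 * T1 * T2 - S2 * T1 ^ 2) (Y1 + Y2 - S2 * X1 + T2 ^ 3 * S1 * S2 - T2 ^ 3 * S1 ^ 2) := by
  ext i j
  rw [Matrix.mul_apply, Fin.sum_univ_seven]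
  fin_cases i <;> fin_cases j
  · exact m7_00 h3 T1 S1 U1 X1 W1 Y1 T2 S2 U2 X2 W2 Y2
  · exact m7_01 h3 T1 S1 U1 X1 W1 Y1 T2 S2 U2 X2 W2 Y2
  · exact m7_02 h3 T1 S1 U1 X1 W1 Y1 T2 S2 U2 X2 W2 Y2
  · exact m7_03 h3 T1 S1 U1 X1 W1 Y1 T2 S2 U2 X2 W2 Y2
  · exact m7_04 h3 T1 S1 U1 X1 W1 Y1 T2 S2 U2 X2 W2 Y2
  · exact m7_05 h3 T1 S1 U1 X1 W1 Y1 T2 S2 U2 X2 W2 Y2
  · exact m7_06 h3 T1 S1 U1 X1 W1 Y1 T2 S2 U2 X2 W2 Y2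
  · simp [M7]
  · exact m7_11 h3 T1 S1 U1 X1 W1 Y1 T2 S2 U2 X2 W2 Y2
  · exact m7_12 h3 T1 S1 U1 X1 W1 Y1 T2 S2 U2 X2 W2 Y2
  · exact m7_13 h3 T1 S1 U1 X1 W1 Y1 T2 S2 U2 X2 W2 Y2
  · exact m7_14 h3 T1 S1 U1 X1 W1 Y1 T2 S2 U2 X2 W2 Y2
  · exact m7_15 h3 T1 S1 U1 X1 W1 Y1 T2 S2 U2 X2 W2 Y2
  · exact m7_16 h3 T1 S1 U1 X1 W1 Y1 T2 S2 U2 X2 W2 Y2
  · simp [M7]
  · simp [M7]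
  · exact m7_22 h3 T1 S1 U1 X1 W1 Y1 T2 S2 U2 X2 W2 Y2
  · exact m7_23 h3 T1 S1 U1 X1 W1 Y1 T2 S2 U2 X2 W2 Y2
  · exact m7_24 h3 T1 S1 U1 X1 W1 Y1 T2 S2 U2 X2 W2 Y2
  · exact m7_25 h3 T1 S1 U1 X1 W1 Y1 T2 S2 U2 X2 W2 Y2
  · exact m7_26 h3 T1 S1 U1 X1 W1 Y1 T2 S2 U2 X2 W2 Y2
  · simp [M7]
  · simp [M7]
  · simp [M7]
  · exact m7_33 h3 T1 S1 U1 X1 W1 Y1 T2 S2 U2 X2 W2 Y2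
  · exact m7_34 h3 T1 S1 U1 X1 W1 Y1 T2 S2 U2 X2 W2 Y2
  · exact m7_35 h3 T1 S1 U1 X1 W1 Y1 T2 S2 U2 X2 W2 Y2
  · exact m7_36 h3 T1 S1 U1 X1 W1 Y1 T2 S2 U2 X2 W2 Y2
  · simp [M7]
  · simp [M7]
  · simp [M7]
  · simp [M7]
  · exact m7_44 h3 T1 S1 U1 X1 W1 Y1 T2 S2 U2 X2 W2 Y2
  · exact m7_45 h3 T1 S1 U1 X1 W1 Y1 T2 S2 U2 X2 W2 Y2
  · exact m7_46 h3 T1 S1 U1 X1 W1 Y1 T2 S2 U2 X2 W2 Y2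
  · simp [M7]
  · simp [M7]
  · simp [M7]
  · simp [M7]
  · simp [M7]
  · exact m7_55 h3 T1 S1 U1 X1 W1 Y1 T2 S2 U2 X2 W2 Y2
  · exact m7_56 h3 T1 S1 U1 X1 W1 Y1 T2 S2 U2 X2 W2 Y2
  · simp [M7]
  · simp [M7]
  · simp [M7]
  · simp [M7]
  · simp [M7]
  · simp [M7]
  · exact m7_66 h3 T1 S1 U1 X1 W1 Y1 T2 S2 U2 X2 W2 Y2

end Cfsg.Agent.Ree
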