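import Cfsg.Agent.Ree.Tor3

set_option autoImplicit false
set_option maxHeartbeats 1000000

/-!
Hall subgroups, element orders, numbers of elements of given order, conjugacy of cyclic subgroups.
-/

namespace Cfsg.Agent.Ree

namespace RS

variable {K : Type*} [Field K] {τ : Tits K} {R : Type*} [Group R] (S : RS τ R)
variable [Fintype K] {m : ℕ} (hK : Fintype.card K = 3 ^ (2 * m + 1))

include S hK in
theorem hall (hq : 3 < Fintype.card K) :
    ∀ kn ∈ ({((Fintype.card K - 1) / 2, 2 * (Fintype.card K - 1)), ((Fintype.card K + 1) / 4, 6 * (Fintype.card K + 1)),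
        (Fintype.card K - 3 ^ (m + 1) + 1, 6 * (Fintype.card K - 3 ^ (m + 1) + 1)),
        (Fintype.card K + 3 ^ (m + 1) + 1, 6 * (Fintype.card K + 3 ^ (m + 1) + 1))} : Set (ℕ × ℕ)),
      ∃ A C : Subgroup R, Torus A C ∧ Nat.card A = kn.1 ∧
        Nat.card (Subgroup.normalizer (A : Set R)) = kn.2 := by
  obtain ⟨T1, T2, h1, h2, e1, e2, -, -⟩ := S.tori_X hK hq
  rintro kn (rfl | rfl | rfl | rfl)
  · exact ⟨S.TH, S.H, S.torus_H hK hq, S.card_TH hK, S.card_norm_TH hK hq⟩
  · have := S.finite_R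
    exact ⟨S.A, S.C0, S.torus_A hK hq, S.card_A hK, S.card_norm_A hK hq⟩
  · refine ⟨T2, T2, h2.tor, ?_, ?_⟩
    · change _ = Fintype.card K - 3 ^ (m + 1) + 1
      have hrq : 3 ^ (m + 1) ≤ Fintype.card K := by
        rw [hK]; exact Nat.pow_le_pow_right (by norm_num) (by omega)
      omega
    · change _ = 6 * (Fintype.card K - 3 ^ (m + 1) + 1)
      rw [h2.norm]
      have hrq : 3 ^ (m + 1) ≤ Fintype.card K := by
        rw [hK]; exact Nat.pow_le_pow_right (by norm_num) (by omega)
      omega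
  · refine ⟨T1, T1, h1.tor, ?_, ?_⟩
    · change _ = Fintype.card K + 3 ^ (m + 1) + 1
      omega
    · change _ = 6 * (Fintype.card K + 3 ^ (m + 1) + 1)
      rw [h1.norm]
      omega

/-- the element orders -/
def Ord (q r d : ℕ) : Prop := d ∣ 6 ∨ d ∣ 9 ∨ d ∣ q - 1 ∨ d ∣ (q + 1) / 2 ∨ d ∣ q - r + 1 ∨ d ∣ q + r + 1

omit [Fintype K] in
lemma order_tx_one : orderOf (S.t * S.x 0 1 0) = 6 := S.orderOf_tx one_ne_zero

lemma exists_order_of_dvd {R : Type*} [Group R] [Finite R] {g : R} {d : ℕ} (h : d ∣ orderOf g) : ∃ x : R, orderOf x = d := by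
  obtain ⟨e, he⟩ := h
  have hpos : 0 < orderOf g := orderOf_pos g
  have hpos' : 0 < d * e := by rw [← he]; exact hpos
  have he0 : 0 < e := Nat.pos_of_mul_pos_left hpos'
  refine ⟨g ^ e, ?_⟩
  rw [orderOf_pow_of_dvd he0.ne' ⟨d, by rw [he, mul_comm]⟩, he, Nat.mul_div_cancel _ he0]

include S hK in
theorem orders (hq : 3 < Fintype.card K) (d : ℕ) : (∃ g : R, orderOf g = d) ↔ Ord (Fintype.card K) (3 ^ (m + 1)) d := by
  have hfin := S.finite_R
  obtain ⟨T1, T2, h1, h2, e1, e2, e3, -⟩ := S.tori_X hK hq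
  have hrq : 3 ^ (m + 1) ≤ Fintype.card K := by
    rw [hK]; exact Nat.pow_le_pow_right (by norm_num) (by omega)
  have c1 : Nat.card T1 = Fintype.card K + 3 ^ (m + 1) + 1 := by omega
  have c2 : Nat.card T2 = Fintype.card K - 3 ^ (m + 1) + 1 := by omega
  have c3 : (Fintype.card K + 1) / 2 = 2 * kA K := by
    have := four_kA hK
    omega
  constructor
  · rintro ⟨g, rfl⟩
    rcases S.order_cases hK hq g with h | h | (h | h) | h | h | h | h
    · left; rw [h]; norm_num
    · left; rw [h]; norm_num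
    · left; rw [h]; norm_num
    · right; left; rw [h]
    · left; rw [h]
    · right; right; left; exact S.order_of_H hK hq h
    · right; right; right; left; rw [c3]; exact S.order_of_A hK hq h
    · rw [e3, Nat.coprime_mul_iff_right, not_and_or] at h
      rcases h with h | h
      · right; right; right; right; right; rw [← c1]; exact h1.order_dvd h
      · right; right; right; right; left; rw [← c2]; exact h2.order_dvd h
  · have hT : ∀ T : Subgroup R, IsCyclic T → ∃ g : R, orderOf g = Nat.card T := by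
      intro T hT
      obtain ⟨g, hg⟩ := hT.exists_generator
      exact ⟨g, by rw [Subgroup.orderOf_coe]; exact orderOf_eq_card_of_forall_mem_zpowers hg⟩
    rintro (h | h | h | h | h | h)
    · rw [← S.order_tx_one] at h
      exact exists_order_of_dvd h
    · rw [← (S.orderOf_eq_nine (T := 1) (U := 0) (W := 0)).2 one_ne_zero] at h
      exact exists_order_of_dvd h
    · rw [← S.h_order] at h
      exact exists_order_of_dvd h
    · rw [c3, ← S.g0_order hK] at h
      exact exists_order_of_dvd h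
    · rw [← c2] at h
      obtain ⟨g, hg⟩ := hT T2 h2.tor.cyc
      rw [← hg] at h
      exact exists_order_of_dvd h
    · rw [← c1] at h
      obtain ⟨g, hg⟩ := hT T1 h1.tor.cyc
      rw [← hg] at h
      exact exists_order_of_dvd h

include hK in
lemma card_C0_two {i : ℕ} (hi : i ∣ kA K) :
    Nat.card ↥{y : R | y ∈ S.C0 ∧ orderOf y = 2 * i} = 3 * Nat.totient i := by
  classical
  have hfin := S.finite_R
  have hodd : i % 2 = 1 := by
    obtain ⟨j, hj⟩ := hi
    have h1 := kA_odd hK
    rw [hj] at h1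
    rcases Nat.mod_two_eq_zero_or_one i with h | h
    · rw [Nat.mul_mod, h] at h1; simp at h1
    · exact h
  have hcA : Nat.card ↥{y : R | y ∈ S.A ∧ orderOf y = i} = Nat.totient i :=
    card_order_cyclic S.A (by rw [A]; infer_instance) (by rw [S.card_A hK]; exact hi)
  have hcV : Nat.card ↥((S.V4 : Set R) \ {1}) = 3 := by
    rw [Nat.card_coe_set_eq, Set.ncard_sdiff_singleton_of_mem (one_mem _), V4_ncard]
  rw [← hcA, ← hcV, ← Nat.card_prod]
  symm
  have hodd' : Nat.Coprime 2 i := (Nat.coprime_two_right.2 (Nat.odd_iff.2 hodd)).symm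
  have hord2 : ∀ v ∈ S.V4, v ≠ 1 → orderOf v = 2 := fun v hv hv1 => orderOf_eq_prime (by rw [sq]; exact S.V4_sq hv) hv1
  have hpow : ∀ v ∈ S.V4, v ^ (i + 1) = 1 := by
    intro v hv
    obtain ⟨l, hl⟩ : ∃ l, i + 1 = 2 * l := ⟨(i + 1) / 2, by omega⟩
    rw [hl, pow_mul, sq, S.V4_sq hv, one_pow]
  have hpow' : ∀ v ∈ S.V4, v ^ i = v := by
    intro v hv
    obtain ⟨l, hl⟩ : ∃ l, i = 2 * l + 1 := ⟨i / 2, by omega⟩
    rw [hl, pow_succ, pow_mul, sq, S.V4_sq hv, one_pow, one_mul]
  let f : ↥((S.V4 : Set R) \ {1}) × ↥{y : R | y ∈ S.A ∧ orderOf y = i} → ↥{y : R | y ∈ S.C0 ∧ orderOf y = 2 * i} := fun p =>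
    ⟨p.1 * p.2, mul_mem (S.V4_le_C0 p.1.2.1) (S.A_le_C0 p.2.2.1), by
      have h1 : orderOf (p.1 : R) = 2 := hord2 _ p.1.2.1 p.1.2.2
      have h2 : orderOf (p.2 : R) = i := p.2.2.2
      have hc : Commute (p.1 : R) (p.2 : R) := S.C0_comm (S.V4_le_C0 p.1.2.1) (S.A_le_C0 p.2.2.1)
      rw [hc.orderOf_mul_eq_mul_orderOf_of_coprime (by rw [h1, h2]; exact hodd'), h1, h2]⟩
  refine Nat.card_congr (Equiv.ofBijective f ⟨?_, ?_⟩)
  · rintro ⟨⟨v, hv⟩, ⟨a, ha⟩⟩ ⟨⟨v', hv'⟩, ⟨a', ha'⟩⟩ h
    have h1 : v * a = v' * a' := congrArg Subtype.val h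
    have hc : Commute v a := S.C0_comm (S.V4_le_C0 hv.1) (S.A_le_C0 ha.1)
    have hc' : Commute v' a' := S.C0_comm (S.V4_le_C0 hv'.1) (S.A_le_C0 ha'.1)
    have h2 : v = v' := by
      have h3 := congrArg (fun z => z ^ i) h1
      have b1 : a ^ i = 1 := by rw [← orderOf_dvd_iff_pow_eq_one]; exact ha.2.dvd
      have b2 : a' ^ i = 1 := by rw [← orderOf_dvd_iff_pow_eq_one]; exact ha'.2.dvd
      simp only [hc.mul_pow, hc'.mul_pow, b1, b2, mul_one, hpow' v hv.1, hpow' v' hv'.1] at h3
      exact h3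
    subst h2
    have h3 : a = a' := mul_left_cancel h1
    subst h3
    rfl
  · rintro ⟨y, hy, hyo⟩
    have hi0 : 0 < i := by omega
    have h1 : orderOf (y ^ i) = 2 := by
      rw [orderOf_pow_of_dvd hi0.ne' (by rw [hyo]; exact Dvd.intro_left _ rfl), hyo, Nat.mul_div_cancel _ hi0]
    have h2 : y ^ i ∈ S.V4 := by
      rw [mem_V4]
      apply S.C0_sq hK (pow_mem hy _)
      have := pow_orderOf_eq_one (y ^ i)
      rwa [h1, sq] at this
    have h3 : orderOf (y ^ (i + 1)) = i := by
      have hyo' : orderOf y = 2 * i := hyo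
      obtain ⟨l, hl⟩ : ∃ l, i + 1 = 2 * l := ⟨(i + 1) / 2, by omega⟩
      have hy2 : orderOf (y ^ 2) = i := by
        rw [orderOf_pow_of_dvd (by norm_num) (by rw [hyo']; exact Dvd.intro _ rfl), hyo', Nat.mul_div_cancel_left _ (by norm_num)]
      have hco : Nat.Coprime (orderOf (y ^ 2)) l := by
        rw [hy2]
        have : Nat.Coprime i (2 * l) := by rw [← hl]; simp
        exact Nat.Coprime.coprime_mul_left_right this
      rw [hl, pow_mul, hco.orderOf_pow, hy2]
    refine ⟨⟨⟨y ^ i, h2, ?_⟩, ⟨y ^ (i + 1), ?_, h3⟩⟩, Subtype.ext ?_⟩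
    · intro h
      have h4 : y ^ i = 1 := h
      rw [h4, orderOf_one] at h1
      omega
    · apply S.mem_A_of_C0 hK (pow_mem hy _) hodd
      have := pow_orderOf_eq_one (y ^ (i + 1))
      rwa [h3] at this
    · change y ^ i * y ^ (i + 1) = y
      rw [← pow_add, show i + (i + 1) = 2 * i + 1 by ring, pow_succ]
      have := pow_orderOf_eq_one y
      rw [hyo] at this
      rw [this, one_mul]

include S hK in
theorem counts (hq : 3 < Fintype.card K) :
    Nat.card {g : R // orderOf g = 2} = (Fintype.card K) ^ 2 * ((Fintype.card K) ^ 2 - Fintype.card K + 1) ∧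
    Nat.card {g : R // orderOf g = 3} = ((Fintype.card K) ^ 2 - 1) * ((Fintype.card K) ^ 3 + 1) ∧
    Nat.card {g : R // orderOf g = 6} = (Fintype.card K) ^ 2 * (Fintype.card K - 1) * ((Fintype.card K) ^ 3 + 1) ∧
    Nat.card {g : R // orderOf g = 9} = (Fintype.card K) ^ 2 * (Fintype.card K - 1) * ((Fintype.card K) ^ 3 + 1) ∧
    (∀ i : ℕ, 2 < i → i ∣ Fintype.card K - 1 →
      2 * Nat.card {g : R // orderOf g = i} = Nat.totient i * (Fintype.card K) ^ 3 * ((Fintype.card K) ^ 3 + 1)) ∧
    (∀ i : ℕ, 1 < i → i ∣ (Fintype.card K + 1) / 4 →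
      6 * Nat.card {g : R // orderOf g = i} =
          Nat.totient i * (Fintype.card K) ^ 3 * (Fintype.card K - 1) * ((Fintype.card K) ^ 2 - Fintype.card K + 1) ∧
        2 * Nat.card {g : R // orderOf g = 2 * i} =
          Nat.totient i * (Fintype.card K) ^ 3 * (Fintype.card K - 1) * ((Fintype.card K) ^ 2 - Fintype.card K + 1)) ∧
    (∀ i : ℕ, 1 < i → i ∣ Fintype.card K - 3 ^ (m + 1) + 1 →
      6 * Nat.card {g : R // orderOf g = i} =
        Nat.totient i * (Fintype.card K) ^ 3 * ((Fintype.card K) ^ 2 - 1) * (Fintype.card K + 3 ^ (m + 1) + 1)) ∧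
    (∀ i : ℕ, 1 < i → i ∣ Fintype.card K + 3 ^ (m + 1) + 1 →
      6 * Nat.card {g : R // orderOf g = i} =
        Nat.totient i * (Fintype.card K) ^ 3 * ((Fintype.card K) ^ 2 - 1) * (Fintype.card K - 3 ^ (m + 1) + 1)) := by
  have hfin := S.finite_R
  obtain ⟨T1, T2, h1, h2, e1, e2, e3, -⟩ := S.tori_X hK hq
  have hrq : 3 ^ (m + 1) ≤ Fintype.card K := by
    rw [hK]; exact Nat.pow_le_pow_right (by norm_num) (by omega)
  have c1 : Nat.card T1 = Fintype.card K + 3 ^ (m + 1) + 1 := by omega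
  have c2 : Nat.card T2 = Fintype.card K - 3 ^ (m + 1) + 1 := by omega
  have hsq : Fintype.card K ^ 2 - 1 = (Fintype.card K + 1) * (Fintype.card K - 1) := by
    have := Nat.sq_sub_sq (Fintype.card K) 1
    rwa [one_pow] at this
  refine ⟨S.card_two hK, S.card_three' hK, S.card_six hK, S.card_nine hK, ?_, ?_, ?_, ?_⟩
  · intro i hi hid
    have hT := S.torus_H hK hq
    have e : Fintype.card K - 1 = 2 * kH K := by
      have := (two_kH hK).1
      omega
    have hn : ¬ Nat.Coprime i (Nat.card S.TH) := by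
      rw [S.card_TH hK]
      intro hco
      rw [e] at hid
      have := Nat.le_of_dvd (by norm_num) (hco.dvd_of_dvd_mul_right hid)
      omega
    have h3 := hT.card_type (P := fun o => o = i) (fun o ho => by rw [ho]; exact hn)
    rw [S.card_norm_TH hK hq, card_order_cyclic S.H S.H_cyclic (by rw [S.card_H]; exact hid), S.card] at h3
    have hpos : 0 < Fintype.card K - 1 := by omega
    apply Nat.eq_of_mul_eq_mul_right hpos
    have h4 : Nat.card {g : R // orderOf g = i} * (2 * (Fintype.card K - 1)) = _ := h3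
    linear_combination h4
  · intro i hi hid
    have hT := S.torus_A hK hq
    have hid' : i ∣ kA K := hid
    have hn : ¬ Nat.Coprime i (Nat.card S.A) := by
      rw [S.card_A hK]; exact Torus.ncop_of_dvd hi hid'
    have hn2 : ¬ Nat.Coprime (2 * i) (Nat.card S.A) := fun h => hn (Nat.Coprime.coprime_dvd_left (Dvd.intro_left _ rfl) h)
    have hodd : i % 2 = 1 := by
      obtain ⟨j, hj⟩ := hid'
      have h1 := kA_odd hK
      rw [hj] at h1
      rcases Nat.mod_two_eq_zero_or_one i with h | h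
      · rw [Nat.mul_mod, h] at h1; simp at h1
      · exact h
    constructor
    · have h3 := hT.card_type (P := fun o => o = i) (fun o ho => by rw [ho]; exact hn)
      have h5 : {y : R | y ∈ S.C0 ∧ orderOf y = i} = {y : R | y ∈ S.A ∧ orderOf y = i} := by
        ext y
        constructor
        · rintro ⟨a, b⟩
          refine ⟨S.mem_A_of_C0 hK a hodd ?_, b⟩
          have := pow_orderOf_eq_one y
          rwa [b] at this
        · rintro ⟨a, b⟩
          exact ⟨S.A_le_C0 a, b⟩
      rw [S.card_norm_A hK hq] at h3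
      have h4 : Nat.card {g : R // orderOf g = i} * (6 * (Fintype.card K + 1)) = Nat.card R * Nat.card ↥{y : R | y ∈ S.C0 ∧ orderOf y = i} := h3
      rw [h5, card_order_cyclic S.A (by rw [A]; infer_instance) (by rw [S.card_A hK]; exact hid'), S.card'] at h4
      apply Nat.eq_of_mul_eq_mul_right (show 0 < Fintype.card K + 1 by omega)
      linear_combination h4
    · have h3 := hT.card_type (P := fun o => o = 2 * i) (fun o ho => by rw [ho]; exact hn2)
      rw [S.card_norm_A hK hq] at h3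
      have h4 : Nat.card {g : R // orderOf g = 2 * i} * (6 * (Fintype.card K + 1)) = Nat.card R * Nat.card ↥{y : R | y ∈ S.C0 ∧ orderOf y = 2 * i} := h3
      rw [S.card_C0_two hK hid', S.card'] at h4
      apply Nat.eq_of_mul_eq_mul_right (show 0 < 3 * (Fintype.card K + 1) by omega)
      linear_combination h4
  · intro i hi hid
    rw [← c2] at hid
    have h3 := h2.count_order hi hid
    rw [S.card', e3] at h3
    rw [← c1, hsq]
    apply Nat.eq_of_mul_eq_mul_right (show 0 < Nat.card T2 from Nat.card_pos)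
    linear_combination h3
  · intro i hi hid
    rw [← c1] at hid
    have h3 := h1.count_order hi hid
    rw [S.card', e3] at h3
    rw [← c2, hsq]
    apply Nat.eq_of_mul_eq_mul_right (show 0 < Nat.card T1 from Nat.card_pos)
    linear_combination h3

end RS

end Cfsg.Agent.Ree
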